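import Groth.Agent.Lib.GaDual.Lazard
import Mathlib.RingTheory.PowerSeries.Substitution
import Mathlib.RingTheory.PowerSeries.Trunc
import Mathlib.RingTheory.PowerSeries.Exp
import Mathlib.RingTheory.MvPolynomial.Basic

/-!
# Characters of `𝔾_a` and their coefficient sequences

A polynomial or power series `χ` satisfies `χ(X+Y) = χ(X) χ(Y)` iff
`χᵢ χⱼ = C(i+j, i) χᵢ₊ⱼ`; in characteristic `p` such sequences are products of truncated
exponentials.
-/

set_option autoImplicit false

universe u

open Finset

namespace GrothLib.GaDual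

variable {A : Type u} [CommRing A]

theorem eq_of_cf {P Q : MvPolynomial (Fin 2) A} (h : ∀ i j, cf P i j = cf Q i j) : P = Q :=
  sub_eq_zero.1 (eq_zero_of_cf _ fun i j => by rw [cf_sub, h, sub_self])

/-- The coefficient form of the character equation. -/
theorem charEq_iff (f : Polynomial A) :
    Polynomial.aeval (MvPolynomial.X 0 + MvPolynomial.X 1 : MvPolynomial (Fin 2) A) f =
        Polynomial.aeval (MvPolynomial.X 0 : MvPolynomial (Fin 2) A) f *
          Polynomial.aeval (MvPolynomial.X 1 : MvPolynomial (Fin 2) A) f ↔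
      ∀ i j, f.coeff i * f.coeff j = ((i + j).choose i : A) * f.coeff (i + j) := by
  refine ⟨fun h i j => ?_, fun h => eq_of_cf fun i j => ?_⟩
  · rw [← cf_aeval_mul, ← h, cf_aeval_add]
  · rw [cf_aeval_add, cf_aeval_mul, h]

theorem cf_mul_X_pow_zero (P : MvPolynomial (Fin 2) A) {M i j : ℕ} (hi : i < M) :
    cf (P * MvPolynomial.X 0 ^ M) i j = 0 := by
  rw [cf, map_mul, map_pow, MvPolynomial.aeval_X, Matrix.cons_val_zero, ← Polynomial.C_pow,
    Polynomial.coeff_mul_C, Polynomial.coeff_mul_X_pow', if_neg (by omega)]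

theorem cf_mul_X_pow_one (P : MvPolynomial (Fin 2) A) {M i j : ℕ} (hj : j < M) :
    cf (P * MvPolynomial.X 1 ^ M) i j = 0 := by
  rw [cf, map_mul, map_pow, MvPolynomial.aeval_X, Matrix.cons_val_one, Matrix.cons_val_zero,
    Polynomial.coeff_mul_X_pow', if_neg (by omega), Polynomial.coeff_zero]

theorem charSeq_of_mod {M : ℕ} (f : Polynomial A)
    (h : Ideal.Quotient.mk
        (Ideal.span {(MvPolynomial.X 0 ^ M : MvPolynomial (Fin 2) A), MvPolynomial.X 1 ^ M})
        (Polynomial.aeval (MvPolynomial.X 0 + MvPolynomial.X 1 : MvPolynomial (Fin 2) A) f) =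
      Ideal.Quotient.mk
        (Ideal.span {(MvPolynomial.X 0 ^ M : MvPolynomial (Fin 2) A), MvPolynomial.X 1 ^ M})
        (Polynomial.aeval (MvPolynomial.X 0 : MvPolynomial (Fin 2) A) f *
          Polynomial.aeval (MvPolynomial.X 1 : MvPolynomial (Fin 2) A) f)) :
    ∀ i j, i < M → j < M → f.coeff i * f.coeff j = ((i + j).choose i : A) * f.coeff (i + j) := by
  intro i j hi hj
  rw [Ideal.Quotient.eq, Ideal.mem_span_pair] at h
  obtain ⟨P, Q, hPQ⟩ := h
  have e := congrArg (fun z => cf z i j) hPQ
  simp only [cf_add, cf_sub, cf_mul_X_pow_zero P hi, cf_mul_X_pow_one Q hj, cf_aeval_add,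
    cf_aeval_mul] at e
  linear_combination e

theorem coeff_subst_add (χ : PowerSeries A) (i j : ℕ) :
    MvPowerSeries.coeff (Finsupp.single 0 i + Finsupp.single 1 j)
        (PowerSeries.subst (MvPowerSeries.X 0 + MvPowerSeries.X 1 : MvPowerSeries (Fin 2) A) χ) =
      ((i + j).choose i : A) * PowerSeries.coeff (i + j) χ := by
  classical
  have hs : PowerSeries.HasSubst (MvPowerSeries.X 0 + MvPowerSeries.X 1 : MvPowerSeries (Fin 2) A) :=
    PowerSeries.HasSubst.of_constantCoeff_zero (by simp)
  rw [PowerSeries.coeff_subst hs]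
  have hc : ∀ d : ℕ, MvPowerSeries.coeff (Finsupp.single 0 i + Finsupp.single 1 j)
      ((MvPowerSeries.X 0 + MvPowerSeries.X 1 : MvPowerSeries (Fin 2) A) ^ d) =
        if d = i + j then ((i + j).choose i : A) else 0 := fun d => by
    rw [show (MvPowerSeries.X 0 + MvPowerSeries.X 1 : MvPowerSeries (Fin 2) A) ^ d =
      ((Polynomial.aeval (MvPolynomial.X 0 + MvPolynomial.X 1 : MvPolynomial (Fin 2) A)
        ((Polynomial.X : Polynomial A) ^ d) : MvPolynomial (Fin 2) A) : MvPowerSeries (Fin 2) A) by simp,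
      MvPolynomial.coeff_coe, ← cf_eq_coeff (R := A)]
    simp only [Finsupp.coe_add, Pi.add_apply, Finsupp.single_eq_same, ne_eq,
      Finsupp.single_apply]
    simp only [show ((1 : Fin 2) = 0) = False by simp, show ((0 : Fin 2) = 1) = False by simp,
      if_false, add_zero, zero_add]
    rw [cf_aeval_add, Polynomial.coeff_X_pow]
    split_ifs with h1 h2 h2 <;> simp_all
  rw [finsum_eq_single _ (i + j) fun d hd => by rw [hc, if_neg hd, smul_zero], hc, if_pos rfl,
    smul_eq_mul, mul_comm]

theorem coeff_subst_X (s : Fin 2) (χ : PowerSeries A) (e : Fin 2 →₀ ℕ) :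
    MvPowerSeries.coeff e (PowerSeries.subst (MvPowerSeries.X s : MvPowerSeries (Fin 2) A) χ) =
      if e = Finsupp.single s (e s) then PowerSeries.coeff (e s) χ else 0 := by
  classical
  rw [PowerSeries.coeff_subst (PowerSeries.HasSubst.of_constantCoeff_zero (MvPowerSeries.constantCoeff_X s))]
  split_ifs with h
  · rw [finsum_eq_single _ (e s) fun d hd => by
      rw [MvPowerSeries.coeff_X_pow, if_neg fun h' => hd (by rw [h']; simp), smul_zero],
      MvPowerSeries.coeff_X_pow, if_pos h, smul_eq_mul, mul_one]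
  · refine finsum_eq_zero_of_forall_eq_zero fun d => ?_
    rw [MvPowerSeries.coeff_X_pow, if_neg fun h' => h (by rw [h']; simp), smul_zero]

theorem coeff_subst_mul (χ ψ : PowerSeries A) (i j : ℕ) :
    MvPowerSeries.coeff (Finsupp.single 0 i + Finsupp.single 1 j)
        (PowerSeries.subst (MvPowerSeries.X 0 : MvPowerSeries (Fin 2) A) χ *
          PowerSeries.subst (MvPowerSeries.X 1 : MvPowerSeries (Fin 2) A) ψ) =
      PowerSeries.coeff i χ * PowerSeries.coeff j ψ := by
  classical
  rw [MvPowerSeries.coeff_mul,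
    Finset.sum_eq_single (Finsupp.single 0 i, Finsupp.single 1 j)]
  · simp [coeff_subst_X]
  · rintro ⟨a, b⟩ hab hne
    rw [Finset.mem_antidiagonal] at hab
    simp only [coeff_subst_X]
    by_cases ha : a = Finsupp.single 0 (a 0)
    · by_cases hb : b = Finsupp.single 1 (b 1)
      · refine absurd ?_ hne
        have h0 := DFunLike.congr_fun hab 0
        have h1 := DFunLike.congr_fun hab 1
        rw [ha, hb] at h0 h1
        simp at h0 h1
        rw [ha, hb, h0, h1]
      · rw [if_neg hb, mul_zero]
    · rw [if_neg ha, zero_mul]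
  · simp

theorem charEq_powerSeries_iff (χ : PowerSeries A) :
    PowerSeries.subst (MvPowerSeries.X 0 + MvPowerSeries.X 1 : MvPowerSeries (Fin 2) A) χ =
        PowerSeries.subst (MvPowerSeries.X 0 : MvPowerSeries (Fin 2) A) χ *
          PowerSeries.subst (MvPowerSeries.X 1 : MvPowerSeries (Fin 2) A) χ ↔
      ∀ i j, PowerSeries.coeff i χ * PowerSeries.coeff j χ =
        ((i + j).choose i : A) * PowerSeries.coeff (i + j) χ := by
  refine ⟨fun h i j => ?_, fun h => ?_⟩
  · rw [← coeff_subst_mul, ← h, coeff_subst_add]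
  · ext e
    rw [show e = Finsupp.single 0 (e 0) + Finsupp.single 1 (e 1) by
      ext k; fin_cases k <;> simp]
    rw [coeff_subst_add, coeff_subst_mul, h]

/-- Coefficients of a character over a `ℚ`-algebra. -/
theorem charSeq_rat_iff [Algebra ℚ A] (χ : ℕ → A) :
    (χ 0 = 1 ∧ ∀ i j, χ i * χ j = ((i + j).choose i : A) * χ (i + j)) ↔
      ∀ n, χ n = χ 1 ^ n * algebraMap ℚ A (1 / n.factorial) := by
  constructor
  · rintro ⟨h0, h⟩ n
    induction n with
    | zero => simp [h0]
    | succ n ih =>
      have e := h 1 n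
      rw [add_comm 1 n, Nat.choose_one_right, ih] at e
      rw [show (1 / ((n + 1).factorial : ℚ)) = 1 / n.factorial * (1 / (n + 1 : ℕ)) by
        rw [Nat.factorial_succ]; push_cast; field_simp, map_mul, pow_succ']
      have hu : ((n + 1 : ℕ) : A) * algebraMap ℚ A (1 / (n + 1 : ℕ)) = 1 := by
        rw [← map_natCast (algebraMap ℚ A), ← map_mul,
          mul_one_div_cancel (Nat.cast_ne_zero.2 n.succ_ne_zero), map_one]
      linear_combination -algebraMap ℚ A (1 / (n + 1 : ℕ)) * e - χ (n + 1) * hu
  · intro h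
    refine ⟨by rw [h]; simp, fun i j => ?_⟩
    rw [h i, h j, h (i + j), ← map_natCast (algebraMap ℚ A)]
    have e : (1 / i.factorial * (1 / j.factorial) : ℚ) = (i + j).choose i * (1 / (i + j).factorial) := by
      have := Nat.choose_mul_factorial_mul_factorial (Nat.le_add_right i j)
      rw [Nat.add_sub_cancel_left] at this
      rw [← this]
      have := (Nat.choose_pos (Nat.le_add_right i j)).ne'
      have := i.factorial_ne_zero
      have := j.factorial_ne_zero
      push_cast
      field_simp
    have e' := congrArg (algebraMap ℚ A) e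
    rw [map_mul, map_mul] at e'
    linear_combination (χ 1 ^ (i + j)) * e'

variable (p : ℕ) [Fact p.Prime] [CharP A p]

/-- `exp_p(a X^q)`. -/
noncomputable def expp (a : A) (q : ℕ) : Polynomial A :=
  ∑ j ∈ range p, Polynomial.C (Ring.inverse (j.factorial : A) * a ^ j) * Polynomial.X ^ (j * q)

theorem isUnit_natCast_of_lt {n : ℕ} (h0 : n ≠ 0) (h : n < p) : IsUnit (n : A) := by
  rw [← Nat.mod_eq_of_lt h]
  exact isUnit_digit p n (by rwa [Nat.mod_eq_of_lt h])

theorem isUnit_factorial_of_lt {n : ℕ} (h : n < p) : IsUnit (n.factorial : A) := by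
  induction n with
  | zero => simp
  | succ n ih =>
    rw [Nat.factorial_succ, Nat.cast_mul]
    exact (isUnit_natCast_of_lt p n.succ_ne_zero h).mul (ih (by omega))

theorem choose_mul_add_cast (j : ℕ) : ∀ (m r : ℕ), r < p ^ m →
    ((j * p ^ m + r).choose r : A) = 1 := by
  intro m
  induction m with
  | zero => intro r hr; simp [show r = 0 by simpa using hr]
  | succ m ih =>
    intro r hr
    have hp : p.Prime := Fact.out
    have h := (CharP.natCast_eq_natCast A p).2
      (Choose.choose_modEq_choose_mod_mul_choose_div_nat (p := p) (n := j * p ^ (m + 1) + r) (k := r))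
    rw [h, show j * p ^ (m + 1) + r = r + p * (j * p ^ m) by ring, Nat.add_mul_mod_self_left,
      Nat.choose_self, one_mul, Nat.add_mul_div_left _ _ hp.pos, add_comm]
    exact ih _ (Nat.div_lt_of_lt_mul (by rwa [← pow_succ']))

variable {p}

theorem charSeq_pow_pow {M : ℕ} (χ : ℕ → A) (h0 : χ 0 = 1)
    (h : ∀ i j, i < p ^ M → j < p ^ M → χ i * χ j = ((i + j).choose i : A) * χ (i + j))
    {m : ℕ} (hm : m < M) :
    (∀ j, j < p → χ (j * p ^ m) = Ring.inverse (j.factorial : A) * χ (p ^ m) ^ j) ∧
      χ (p ^ m) ^ p = 0 := by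
  have hp : p.Prime := Fact.out
  have hq := pow_pos hp.pos m
  have hlt : ∀ j, j < p → j * p ^ m < p ^ M := fun j hj =>
    ((Nat.mul_lt_mul_right hq).2 hj).trans_le
      (by rw [← pow_succ']; exact Nat.pow_le_pow_right hp.pos (by omega))
  have hstep : ∀ j, j < p → χ (p ^ m) * χ (j * p ^ m) = ((j + 1 : ℕ) % p : ℕ) * χ ((j + 1) * p ^ m) :=
    fun j hj => by
      rw [h _ _ (by simpa using hlt 1 hp.one_lt) (hlt j hj), choose_pow_cast p,
        show p ^ m + j * p ^ m = (j + 1) * p ^ m by ring, Nat.mul_div_cancel _ hq]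
  have h1 : ∀ j, j < p → χ (j * p ^ m) = Ring.inverse (j.factorial : A) * χ (p ^ m) ^ j := by
    intro j
    induction j with
    | zero => intro; simp [h0]
    | succ j ih =>
      intro hj
      have e := hstep j (by omega)
      rw [ih (by omega), Nat.mod_eq_of_lt hj] at e
      refine (isUnit_factorial_of_lt (A := A) p hj).mul_left_cancel ?_
      rw [Ring.mul_inverse_cancel_left _ _ (isUnit_factorial_of_lt (A := A) p hj), Nat.factorial_succ,
        Nat.cast_mul, mul_comm ((j + 1 : ℕ) : A), mul_assoc, ← e, pow_succ',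
        mul_left_comm (χ (p ^ m)), ← mul_assoc,
        Ring.mul_inverse_cancel _ (isUnit_factorial_of_lt (A := A) p (by omega)), one_mul]
  refine ⟨h1, ?_⟩
  have e := hstep (p - 1) (Nat.sub_lt hp.pos one_pos)
  rw [Nat.sub_add_cancel hp.one_le, Nat.mod_self, Nat.cast_zero, zero_mul,
    h1 _ (Nat.sub_lt hp.pos one_pos), mul_left_comm, ← pow_succ', Nat.sub_add_cancel hp.one_le] at e
  rw [← Ring.mul_inverse_cancel_left ((p - 1).factorial : A) (χ (p ^ m) ^ p)
    (isUnit_factorial_of_lt (A := A) p (Nat.sub_lt hp.pos one_pos)), e, mul_zero]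

theorem coeff_prod_expp {M : ℕ} (χ : ℕ → A) (h0 : χ 0 = 1)
    (h : ∀ i j, i < p ^ M → j < p ^ M → χ i * χ j = ((i + j).choose i : A) * χ (i + j))
    (a : ℕ → A) (ha : ∀ n, n < M → a n = χ (p ^ n)) :
    ∀ m, m ≤ M → ∀ k, (∏ n ∈ range m, expp p (a n) (p ^ n)).coeff k =
      if k < p ^ m then χ k else 0 := by
  have hp : p.Prime := Fact.out
  intro m
  induction m with
  | zero =>
    intro _ k
    rcases Nat.eq_zero_or_pos k with rfl | hk
    · simp [h0]
    · simp [Polynomial.coeff_one, hk.ne']
  | succ m ih =>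
    intro hm k
    obtain ⟨hpow, -⟩ := charSeq_pow_pow χ h0 h (show m < M by omega)
    have hq := pow_pos hp.pos m
    rw [prod_range_succ, expp, mul_sum, Polynomial.finsetSum_coeff]
    simp only [← mul_assoc, Polynomial.coeff_mul_X_pow', Polynomial.coeff_mul_C, ih (by omega),
      ha m (by omega)]
    have hzero : ∀ j, j < p → j ≠ k / p ^ m →
        (if j * p ^ m ≤ k then (if k - j * p ^ m < p ^ m then χ (k - j * p ^ m) else 0) *
          Ring.inverse (j.factorial : A) * χ (p ^ m) ^ j else 0) = 0 := fun j _ hj => by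
      split_ifs with h1 h2
      · exact absurd (Nat.div_eq_of_lt_le h1 (by rw [Nat.add_mul, one_mul]; omega)).symm hj
      · rw [zero_mul, zero_mul]
      · rfl
    by_cases hk : k < p ^ (m + 1)
    · have hj : k / p ^ m < p := (Nat.div_lt_iff_lt_mul hq).2 (by rwa [← pow_succ'])
      have hr := Nat.mod_lt k hq
      have hk' : k - k / p ^ m * p ^ m = k % p ^ m := by
        rw [Nat.sub_eq_iff_eq_add (Nat.div_mul_le_self k _), Nat.add_comm, Nat.div_add_mod']
      have hM : p ^ (m + 1) ≤ p ^ M := Nat.pow_le_pow_right hp.pos hm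
      rw [if_pos hk, sum_eq_single (k / p ^ m) (fun j hj' => hzero j (mem_range.1 hj'))
        fun h' => absurd (mem_range.2 hj) h', if_pos (Nat.div_mul_le_self k _), hk', if_pos hr,
        mul_assoc, ← hpow _ hj, mul_comm,
        h _ _ ((Nat.div_mul_le_self k _).trans_lt (hk.trans_le hM))
          (hr.trans_le ((Nat.pow_le_pow_right hp.pos (Nat.le_succ m)).trans hM))]
      rw [Nat.choose_symm_add, choose_mul_add_cast p _ _ _ hr, one_mul, Nat.div_add_mod']
    · rw [if_neg hk]
      refine sum_eq_zero fun j hj => hzero j (mem_range.1 hj) fun h' => hk ?_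
      rw [pow_succ', ← Nat.div_lt_iff_lt_mul hq, ← h']
      exact mem_range.1 hj

theorem expp_charEq (a : A) (ha : a ^ p = 0) (m : ℕ) :
    Polynomial.aeval (MvPolynomial.X 0 + MvPolynomial.X 1 : MvPolynomial (Fin 2) A) (expp p a (p ^ m)) =
      Polynomial.aeval (MvPolynomial.X 0 : MvPolynomial (Fin 2) A) (expp p a (p ^ m)) *
        Polynomial.aeval (MvPolynomial.X 1 : MvPolynomial (Fin 2) A) (expp p a (p ^ m)) := by
  have hp : p.Prime := Fact.out
  have hc : ∀ k, (expp p a 1).coeff k =
      if k < p then Ring.inverse (k.factorial : A) * a ^ k else 0 := fun k => by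
    rw [expp, Polynomial.finsetSum_coeff]
    simp only [mul_one, Polynomial.coeff_C_mul_X_pow, Finset.sum_ite_eq, Finset.mem_range]
  have he := (charEq_iff (expp p a 1)).2 fun i j => by
    simp only [hc]
    by_cases hij : i + j < p
    · rw [if_pos (by omega), if_pos (by omega), if_pos hij]
      have hu := fun n (hn : n < p) => Ring.mul_inverse_cancel (n.factorial : A)
        (isUnit_factorial_of_lt (A := A) p hn)
      have hi := hu i (by omega)
      have hj := hu j (by omega)
      have hn := hu (i + j) hij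
      have hf : ((i + j).choose i : A) * i.factorial * j.factorial = (i + j).factorial := by
        rw [← Nat.cast_mul, ← Nat.cast_mul]
        have := Nat.choose_mul_factorial_mul_factorial (Nat.le_add_right i j)
        rw [Nat.add_sub_cancel_left] at this
        rw [this]
      set x := Ring.inverse (i.factorial : A)
      set y := Ring.inverse (j.factorial : A)
      set z := Ring.inverse ((i + j).factorial : A)
      linear_combination (-(a ^ (i + j)) * x * y) * hn - (a ^ (i + j) * x * y * z) * hf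
        + (((i + j).choose i : A) * a ^ (i + j) * z * ((j.factorial : A) * y)) * hi
        + (((i + j).choose i : A) * a ^ (i + j) * z) * hj
    · rw [if_neg hij, mul_zero]
      have hz : a ^ i * a ^ j = 0 := by
        rw [← pow_add, pow_eq_zero_of_le (not_lt.1 hij) ha]
      split_ifs
      · linear_combination (Ring.inverse (i.factorial : A) * Ring.inverse (j.factorial : A)) * hz
      · rw [mul_zero]
      · rw [zero_mul]
      · rw [zero_mul]
  have hcomp : ∀ z : MvPolynomial (Fin 2) A, Polynomial.aeval z (expp p a (p ^ m)) =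
      Polynomial.aeval (z ^ p ^ m) (expp p a 1) := fun z => by
    simp [expp, map_sum, ← pow_mul, mul_comm]
  rw [hcomp, hcomp, hcomp, add_pow_char_pow (MvPolynomial.X 0 : MvPolynomial (Fin 2) A) _ p m]
  have e := congrArg (MvPolynomial.aeval
    ![(MvPolynomial.X 0 : MvPolynomial (Fin 2) A) ^ p ^ m, MvPolynomial.X 1 ^ p ^ m]) he
  simpa [← Polynomial.aeval_algHom_apply] using e

theorem prod_expp_charEq (a : ℕ → A) (ha : ∀ n, a n ^ p = 0) (N : ℕ) :
    (∏ n ∈ range N, expp p (a n) (p ^ n)).coeff 0 = 1 ∧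
      ∀ i j, (∏ n ∈ range N, expp p (a n) (p ^ n)).coeff i * (∏ n ∈ range N, expp p (a n) (p ^ n)).coeff j =
        ((i + j).choose i : A) * (∏ n ∈ range N, expp p (a n) (p ^ n)).coeff (i + j) := by
  have hp : p.Prime := Fact.out
  refine ⟨?_, (charEq_iff _).1 ?_⟩
  · rw [Polynomial.coeff_zero_prod, prod_eq_one]
    intro n _
    rw [expp, Polynomial.finsetSum_coeff, sum_eq_single 0]
    · simp
    · intro j _ hj
      rw [Polynomial.coeff_C_mul_X_pow, if_neg (Nat.mul_ne_zero hj (pow_ne_zero n hp.ne_zero)).symm]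
    · intro h; exact absurd (mem_range.2 hp.pos) h
  · simp only [map_prod, ← prod_mul_distrib]
    exact prod_congr rfl fun n _ => expp_charEq (a n) (ha n) n

end GrothLib.GaDual
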