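import Groth.Agent.Lib.GaDual.Expp
import Mathlib.RingTheory.Ideal.Maps
import Mathlib.RingTheory.Polynomial.Nilpotent
import Mathlib.RingTheory.MvPolynomial.Ideal
import Mathlib.RingTheory.Nilpotent.Lemmas
import Mathlib.RingTheory.Noetherian.Basic

/-!
# Splitting of symmetric extensions of `𝔾_a` by `𝔾_m` over rings with surjective Frobenius

`GrothLib.GaDual.splits_of_pow_eq_bot`: a multiplicative symmetric two-cocycle `h ≡ 1` modulo a
nilpotent ideal is of the form `f(X+Y) / (f(X) f(Y))`.
-/

set_option autoImplicit false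

universe u

open MvPolynomial

namespace GrothLib.GaDual

variable {R : Type u} [CommRing R]

/-- The multiplicative symmetric two-cocycle condition. -/
def IsMulCocycle (h : MvPolynomial (Fin 2) R) : Prop :=
  ∀ (A : Type u) [CommRing A] [Algebra R A] (a b c : A), aeval ![b, a] h = aeval ![a, b] h ∧
    aeval ![b, c] h * aeval ![a, b + c] h = aeval ![a + b, c] h * aeval ![a, b] h

theorem IsMulCocycle.of_eq (h : MvPolynomial (Fin 2) R) (h1 : aeval ![X 1, X 0] h = h)
    (h2 : aeval ![(X 1 : MvPolynomial (Fin 3) R), X 2] h * aeval ![X 0, X 1 + X 2] h =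
      aeval ![X 0 + X 1, X 2] h * aeval ![X 0, X 1] h) : IsMulCocycle h := fun A _ _ a b c => by
  constructor
  · have e := congrArg (aeval ![a, b]) h1
    rw [aeval_aeval_two] at e
    simpa using e
  · have e := congrArg (aeval ![a, b, c]) h2
    simp only [map_mul, aeval_aeval_two] at e
    simpa using e

theorem IsMulCocycle.map {S : Type u} [CommRing S] [Algebra R S] {h : MvPolynomial (Fin 2) R}
    (hh : IsMulCocycle h) : IsMulCocycle (MvPolynomial.map (algebraMap R S) h) :=
  fun A _ _ a b c => by
    let _ : Algebra R A := ((algebraMap S A).comp (algebraMap R S)).toAlgebra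
    have : IsScalarTower R S A := IsScalarTower.of_algebraMap_eq fun _ => rfl
    simp only [aeval_map_algebraMap]
    exact hh A a b c

/-- `h` is split by a unit polynomial. -/
def Splits (h : MvPolynomial (Fin 2) R) : Prop :=
  ∃ f : Polynomial R, IsUnit f ∧ Polynomial.aeval (X 0 + X 1 : MvPolynomial (Fin 2) R) f =
    Polynomial.aeval (X 0 : MvPolynomial (Fin 2) R) f *
      Polynomial.aeval (X 1 : MvPolynomial (Fin 2) R) f * h

theorem splits_one : Splits (1 : MvPolynomial (Fin 2) R) := ⟨1, isUnit_one, by simp⟩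

theorem Splits.mul {h h' : MvPolynomial (Fin 2) R} : Splits h → Splits h' → Splits (h * h') :=
  fun ⟨f, hf, e⟩ ⟨g, hg, e'⟩ => ⟨f * g, hf.mul hg, by rw [map_mul, map_mul, map_mul, e, e']; ring⟩

theorem aeval_mem {A : Type u} [CommRing A] [Algebra R A] (g : Fin 2 → A) (I : Ideal R)
    {c : MvPolynomial (Fin 2) R} (hc : c ∈ I.map C) : aeval g c ∈ I.map (algebraMap R A) := by
  have h := Ideal.mem_map_of_mem (aeval (R := R) g).toRingHom hc
  rw [Ideal.map_map] at h
  rwa [show algebraMap R A = (aeval (R := R) g).toRingHom.comp C from RingHom.ext fun r => by simp]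

theorem polynomial_aeval_mem {A : Type u} [CommRing A] [Algebra R A] (z : A) (I : Ideal R)
    {c : Polynomial R} (hc : c ∈ I.map Polynomial.C) :
    Polynomial.aeval z c ∈ I.map (algebraMap R A) := by
  have h := Ideal.mem_map_of_mem (Polynomial.aeval (R := R) z).toRingHom hc
  rw [Ideal.map_map] at h
  rwa [show algebraMap R A = (Polynomial.aeval (R := R) z).toRingHom.comp Polynomial.C from
    RingHom.ext fun r => by simp]

theorem mul_eq_zero_of_mem {A : Type u} [CommRing A] (φ : R →+* A) {I : Ideal R} (hI : I * I = ⊥)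
    {u v : A} (hu : u ∈ I.map φ) (hv : v ∈ I.map φ) : u * v = 0 := by
  have h := Ideal.mul_mem_mul hu hv
  rwa [← Ideal.map_mul, hI, Ideal.map_bot, Ideal.mem_bot] at h

variable (p : ℕ) [Fact p.Prime] [CharP R p]

omit [Fact p.Prime] [CharP R p] in
theorem splits_one_add_cobdry {I : Ideal R} (hI : I * I = ⊥) {G : Polynomial R}
    (hG : G ∈ I.map Polynomial.C) : Splits (1 + cobdry G) := by
  refine ⟨1 + G, IsUnit.of_mul_eq_one (b := 1 - G) ?_, ?_⟩
  · linear_combination -(mul_eq_zero_of_mem Polynomial.C hI hG hG)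
  · have m0 := polynomial_aeval_mem (X 0 : MvPolynomial (Fin 2) R) I hG
    have m1 := polynomial_aeval_mem (X 1 : MvPolynomial (Fin 2) R) I hG
    have m2 := polynomial_aeval_mem (X 0 + X 1 : MvPolynomial (Fin 2) R) I hG
    have h01 := mul_eq_zero_of_mem _ hI m0 m1
    have h02 := mul_eq_zero_of_mem _ hI m0 m2
    have h00 := mul_eq_zero_of_mem _ hI m0 m0
    have h12 := mul_eq_zero_of_mem _ hI m1 m2
    have h11 := mul_eq_zero_of_mem _ hI m1 m1
    simp only [cobdry, map_add, map_one]
    set u := Polynomial.aeval (X 0 : MvPolynomial (Fin 2) R) G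
    set v := Polynomial.aeval (X 1 : MvPolynomial (Fin 2) R) G
    set w := Polynomial.aeval (X 0 + X 1 : MvPolynomial (Fin 2) R) G
    linear_combination (1 + u + v) * h01 + h00 + h11 - h02 - h12 - v * h02

theorem splits_one_add_wittPow (hF : Function.Surjective (frobenius R p)) (r : R) (hr : r * r = 0)
    (w : ℕ) : Splits (1 + C r * wittPow p w : MvPolynomial (Fin 2) R) := by
  have hp : p.Prime := Fact.out
  obtain ⟨F, hF0, hFeq⟩ := exists_truncated_artinHasse.{u} p
  obtain ⟨b, hb⟩ := hF r
  rw [frobenius_def] at hb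
  have hb2 : b ^ (p + p) = 0 := by rw [pow_add, hb, hr]
  let φ : ZMod p →+* R := ZMod.castHom (dvd_refl p) R
  refine ⟨(F.map φ).comp (Polynomial.C b * Polynomial.X ^ p ^ w), ?_, ?_⟩
  · obtain ⟨Q, hQ⟩ := Polynomial.X_dvd_iff.2
      (show (F.map φ - 1).coeff 0 = 0 by simp [hF0])
    rw [sub_eq_iff_eq_add'] at hQ
    rw [hQ, Polynomial.add_comp, Polynomial.one_comp, Polynomial.mul_comp, Polynomial.X_comp]
    exact IsNilpotent.isUnit_one_add ⟨p + p, by rw [mul_pow, mul_pow, ← map_pow, hb2, map_zero]; ring⟩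
  · have he : ∀ z : MvPolynomial (Fin 2) R,
        Polynomial.aeval z ((F.map φ).comp (Polynomial.C b * Polynomial.X ^ p ^ w)) =
          F.eval₂ (C.comp φ) (C b * z ^ p ^ w) := fun z => by
      rw [Polynomial.aeval_comp, Polynomial.aeval_def, Polynomial.eval₂_map]
      simp
    rw [he, he, he, add_pow_char_pow (X 0 : MvPolynomial (Fin 2) R) (X 1) p w]
    have h := hFeq _ (C.comp φ) ((X 0 : MvPolynomial (Fin 2) R) ^ p ^ w) (X 1 ^ p ^ w) (C b)
      (by rw [← map_pow, hb2, map_zero])
    rw [← map_pow, hb, show witt p ((X 0 : MvPolynomial (Fin 2) R) ^ p ^ w) (X 1 ^ p ^ w) = wittPow p w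
      from rfl] at h
    have hr' : (C r : MvPolynomial (Fin 2) R) * C r = 0 := by rw [← map_mul, hr, map_zero]
    linear_combination -(1 + C r * wittPow p w) * h +
      (F.eval₂ (C.comp φ) (C b * ((X 0 : MvPolynomial (Fin 2) R) ^ p ^ w + X 1 ^ p ^ w)) *
        wittPow p w ^ 2) * hr'

theorem splits_of_sq_eq_bot (hF : Function.Surjective (frobenius R p)) {h : MvPolynomial (Fin 2) R}
    (hh : IsMulCocycle h) {I : Ideal R} (hI : I * I = ⊥) (hhI : h - 1 ∈ I.map C) : Splits h := by
  obtain ⟨c, rfl⟩ : ∃ c, h = 1 + c := ⟨h - 1, by ring⟩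
  rw [add_sub_cancel_left] at hhI
  have hc : IsSymCocycle c := fun A _ _ a b d => by
    obtain ⟨h1, h2⟩ := hh A a b d
    simp only [map_add, map_one, add_right_inj] at h1 h2
    refine ⟨h1, ?_⟩
    have z1 := mul_eq_zero_of_mem _ hI (aeval_mem ![b, d] I hhI) (aeval_mem ![a, b + d] I hhI)
    have z2 := mul_eq_zero_of_mem _ hI (aeval_mem ![a + b, d] I hhI) (aeval_mem ![a, b] I hhI)
    linear_combination h2 - z1 + z2
  obtain ⟨G, N, r, hG, hr, rfl⟩ := hc.exists_decomposition p I (MvPolynomial.mem_map_C_iff.1 hhI)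
  have hG' : G ∈ I.map Polynomial.C := Ideal.mem_map_C_iff.2 hG
  have hcob : cobdry G ∈ I.map C := by
    rw [show cobdry G = Polynomial.aeval (X 0 + X 1 : MvPolynomial (Fin 2) R) G
      - Polynomial.aeval (X 0 : MvPolynomial (Fin 2) R) G
      - Polynomial.aeval (X 1 : MvPolynomial (Fin 2) R) G from rfl]
    exact sub_mem (sub_mem (polynomial_aeval_mem _ I hG') (polynomial_aeval_mem _ I hG'))
      (polynomial_aeval_mem _ I hG')
  have hterm : ∀ i, C (r i) * wittPow p i ∈ I.map (C : R →+* MvPolynomial (Fin 2) R) := fun i =>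
    Ideal.mul_mem_right _ _ (Ideal.mem_map_of_mem _ (hr i))
  have key : ∀ s : Finset ℕ, Splits (1 + (cobdry G + ∑ i ∈ s, C (r i) * wittPow p i)) := by
    intro s
    induction s using Finset.induction with
    | empty => simpa using splits_one_add_cobdry hI hG'
    | insert i s his ih =>
      have hsum : cobdry G + ∑ i ∈ s, C (r i) * wittPow p i ∈ I.map C :=
        add_mem hcob (sum_mem fun i _ => hterm i)
      have hz := mul_eq_zero_of_mem _ hI hsum (hterm i)
      have hri : r i * r i = 0 := by
        have := Ideal.mul_mem_mul (hr i) (hr i)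
        rwa [hI] at this
      have := ih.mul (splits_one_add_wittPow p hF (r i) hri i)
      rw [Finset.sum_insert his]
      convert this using 1
      linear_combination -hz
  exact key _

theorem splits_of_pow_eq_bot (n : ℕ) : ∀ (R : Type u) [CommRing R] [CharP R p],
    Function.Surjective (frobenius R p) → ∀ h : MvPolynomial (Fin 2) R, IsMulCocycle h →
      ∀ I : Ideal R, h - 1 ∈ I.map C → I ^ (n + 1) = ⊥ → Splits h := by
  induction n with
  | zero =>
    intro R _ _ _ h _ I hhI hI
    rw [pow_one] at hI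
    rw [hI, Ideal.map_bot, Ideal.mem_bot, sub_eq_zero] at hhI
    exact hhI ▸ splits_one
  | succ n ih =>
    intro R _ _ hF h hh I hhI hI
    have hp : p.Prime := Fact.out
    have : Nontrivial R := CharP.nontrivial_of_char_ne_one (v := p) hp.ne_one
    let K := I ^ (n + 1)
    have hK : K * K = ⊥ := eq_bot_iff.2 <| hI ▸ (by
      rw [← pow_add]; exact Ideal.pow_le_pow_right (by omega))
    have hne : K ≠ ⊤ := fun h' => by
      rw [h', Ideal.mul_top] at hK
      exact top_ne_bot hK
    have : Nontrivial (R ⧸ K) := Ideal.Quotient.nontrivial_iff.2 hne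
    have : CharP (R ⧸ K) p := (CharP.charP_iff_prime_eq_zero hp).2
      (by rw [← map_natCast (Ideal.Quotient.mk K), CharP.cast_eq_zero, map_zero])
    have hF' : Function.Surjective (frobenius (R ⧸ K) p) := fun z => by
      obtain ⟨z, rfl⟩ := Ideal.Quotient.mk_surjective z
      obtain ⟨y, hy⟩ := hF z
      exact ⟨Ideal.Quotient.mk K y, by rw [frobenius_def] at hy ⊢; rw [← map_pow, hy]⟩
    let π := algebraMap R (R ⧸ K)
    have hπ : Function.Surjective π := Ideal.Quotient.mk_surjective
    have hhI' : MvPolynomial.map π h - 1 ∈ (I.map π).map C := by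
      have := Ideal.mem_map_of_mem (MvPolynomial.map π) hhI
      rwa [map_sub, map_one, Ideal.map_map,
        show (MvPolynomial.map π).comp (C : R →+* MvPolynomial (Fin 2) R) = C.comp π from
          RingHom.ext fun r => by simp, ← Ideal.map_map] at this
    obtain ⟨f₁, hf₁, e₁⟩ := ih (R ⧸ K) hF' _ (hh.map (S := R ⧸ K)) _ hhI'
      (by rw [← Ideal.map_pow]; exact Ideal.map_quotient_self K)
    obtain ⟨g₁, hg₁⟩ := hf₁.exists_right_inv
    obtain ⟨f, rfl⟩ := Polynomial.map_surjective π hπ f₁
    have hKnil : ∀ x ∈ K, IsNilpotent x := fun x hx => ⟨2, by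
      have := Ideal.mul_mem_mul hx hx
      rw [hK, Ideal.mem_bot] at this
      rw [pow_two, this]⟩
    obtain ⟨g₀, rfl⟩ := Polynomial.map_surjective π hπ g₁
    have hf : IsUnit f := by
      have hnil : IsNilpotent (f * g₀ - 1) := Polynomial.isNilpotent_iff.2 fun i => hKnil _ <| by
        rw [← Ideal.Quotient.eq_zero_iff_mem, ← Ideal.Quotient.algebraMap_eq, ← Polynomial.coeff_map]
        simp only [Polynomial.map_sub, Polynomial.map_mul, Polynomial.map_one]
        change ((f.map π * g₀.map π - 1 : Polynomial (R ⧸ K))).coeff i = 0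
        rw [hg₁, sub_self, Polynomial.coeff_zero]
      have := IsNilpotent.isUnit_one_add hnil
      rw [add_sub_cancel] at this
      exact isUnit_of_mul_isUnit_left this
    obtain ⟨g, hfg⟩ := hf.exists_right_inv
    let h' := h * Polynomial.aeval (X 0 : MvPolynomial (Fin 2) R) f *
      Polynomial.aeval (X 1 : MvPolynomial (Fin 2) R) f *
      Polynomial.aeval (X 0 + X 1 : MvPolynomial (Fin 2) R) g
    have hinv : ∀ {A : Type u} [CommRing A] [Algebra R A] (z : A),
        Polynomial.aeval z f * Polynomial.aeval z g = 1 := fun z => by rw [← map_mul, hfg, map_one]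
    have hh' : IsMulCocycle h' := fun A _ _ a b c => by
      obtain ⟨h1, h2⟩ := hh A a b c
      simp only [h', map_mul, ← Polynomial.aeval_algHom_apply, map_add, aeval_X,
        Matrix.cons_val_zero, Matrix.cons_val_one]
      refine ⟨by rw [h1, add_comm b a]; ring, ?_⟩
      have e1 := hinv (b + c)
      have e2 := hinv (a + b)
      rw [show a + (b + c) = a + b + c by ring]
      linear_combination (Polynomial.aeval a f * Polynomial.aeval b f * Polynomial.aeval c f *
          Polynomial.aeval (a + b + c) g) * h2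
        + (aeval ![b, c] h * aeval ![a, b + c] h * Polynomial.aeval a f * Polynomial.aeval b f *
            Polynomial.aeval c f * Polynomial.aeval (a + b + c) g) * e1
        - (aeval ![a + b, c] h * aeval ![a, b] h * Polynomial.aeval a f * Polynomial.aeval b f *
            Polynomial.aeval c f * Polynomial.aeval (a + b + c) g) * e2
    have hh'K : h' - 1 ∈ K.map C := MvPolynomial.mem_map_C_iff.2 fun m => by
      rw [← Ideal.Quotient.eq_zero_iff_mem, ← Ideal.Quotient.algebraMap_eq, ← coeff_map]
      have hm : ∀ (z : MvPolynomial (Fin 2) R) (P : Polynomial R),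
          MvPolynomial.map π (Polynomial.aeval z P) =
            Polynomial.aeval (MvPolynomial.map π z) (P.map π) := fun z P => by
        rw [Polynomial.aeval_def, Polynomial.aeval_def, Polynomial.eval₂_map, Polynomial.hom_eval₂]
        congr 1
        exact RingHom.ext fun r => by simp
      have hfg' : f.map π * g.map π = 1 := by rw [← Polynomial.map_mul, hfg, Polynomial.map_one]
      have hz : MvPolynomial.map π (h' - 1) = 0 := by
        simp only [h', map_sub, map_mul, map_one, hm, map_add, map_X, sub_eq_zero]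
        have e3 := congrArg (Polynomial.aeval (X 0 + X 1 : MvPolynomial (Fin 2) (R ⧸ K))) hfg'
        rw [map_mul, map_one, e₁] at e3
        linear_combination e3
      rw [hz, MvPolynomial.coeff_zero]
    obtain ⟨f', hf', e'⟩ := splits_of_sq_eq_bot p hF hh' hK hh'K
    refine ⟨f * f', hf.mul hf', ?_⟩
    rw [map_mul, map_mul, map_mul, e']
    have := hinv (X 0 + X 1 : MvPolynomial (Fin 2) R)
    simp only [h']
    linear_combination (h * Polynomial.aeval (X 0 : MvPolynomial (Fin 2) R) f *
      Polynomial.aeval (X 1 : MvPolynomial (Fin 2) R) f *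
      Polynomial.aeval (X 0 : MvPolynomial (Fin 2) R) f' *
      Polynomial.aeval (X 1 : MvPolynomial (Fin 2) R) f') * this

end GrothLib.GaDual
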