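import Mathlib.Algebra.MvPolynomial.Equiv
import Mathlib.Algebra.MvPolynomial.CommRing
import Mathlib.Algebra.Polynomial.AlgebraMap
import Mathlib.Algebra.Polynomial.Coeff
import Mathlib.RingTheory.Polynomial.Basic
import Mathlib.Data.Fin.VecNotation

/-!
# Coefficients of polynomials in two variables

`cf F i j` is the coefficient of `X₀ⁱ X₁ʲ`, read off from the image of `F` in `R[X][X]`; the
composites occurring in additive two-cocycle identities have simple coefficient formulas.
-/

set_option autoImplicit false

universe u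

open Polynomial

namespace GrothLib.GaDual

variable {R : Type u} [CommRing R]

/-- Coefficient of `X₀ⁱ X₁ʲ`. -/
noncomputable def cf (F : MvPolynomial (Fin 2) R) (i j : ℕ) : R :=
  ((MvPolynomial.aeval ![C X, X] F : R[X][X]).coeff j).coeff i

theorem cf_add (F G : MvPolynomial (Fin 2) R) (i j : ℕ) : cf (F + G) i j = cf F i j + cf G i j := by
  simp [cf]

theorem cf_sub (F G : MvPolynomial (Fin 2) R) (i j : ℕ) : cf (F - G) i j = cf F i j - cf G i j := by
  simp [cf]

theorem cf_zero (i j : ℕ) : cf (0 : MvPolynomial (Fin 2) R) i j = 0 := by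
  simp [cf]

theorem cf_C_mul (r : R) (F : MvPolynomial (Fin 2) R) (i j : ℕ) :
    cf (MvPolynomial.C r * F) i j = r * cf F i j := by
  simp [cf]

theorem cf_sum {ι : Type*} (s : Finset ι) (F : ι → MvPolynomial (Fin 2) R) (i j : ℕ) :
    cf (∑ a ∈ s, F a) i j = ∑ a ∈ s, cf (F a) i j := by
  simp [cf, Polynomial.finsetSum_coeff]

theorem cf_monomial (d : Fin 2 →₀ ℕ) (r : R) (i j : ℕ) :
    cf (MvPolynomial.monomial d r) i j = if d 0 = i ∧ d 1 = j then r else 0 := by
  classical
  rw [cf, MvPolynomial.aeval_monomial, Finsupp.prod_fintype _ _ (fun _ => pow_zero _), Fin.prod_univ_two,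
    IsScalarTower.algebraMap_apply R R[X] R[X][X]]
  simp only [Matrix.cons_val_zero, Matrix.cons_val_one]
  rw [← C_pow, Polynomial.algebraMap_eq, Polynomial.algebraMap_eq, ← mul_assoc, ← C_mul,
    Polynomial.coeff_C_mul_X_pow]
  by_cases h : j = d 1
  · subst h
    rw [if_pos rfl, Polynomial.coeff_C_mul_X_pow]
    simp [eq_comm]
  · rw [if_neg h, Polynomial.coeff_zero, if_neg fun h' => h h'.2.symm]

theorem cf_eq_coeff (F : MvPolynomial (Fin 2) R) (d : Fin 2 →₀ ℕ) :
    cf F (d 0) (d 1) = F.coeff d := by
  classical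
  induction F using MvPolynomial.induction_on' with
  | monomial e r =>
    rw [cf_monomial, MvPolynomial.coeff_monomial]
    refine if_congr ⟨fun h => Finsupp.ext (Fin.forall_fin_two.2 h), fun h => by subst h; simp⟩ rfl rfl
  | add P Q hP hQ => rw [cf_add, hP, hQ, MvPolynomial.coeff_add]

theorem eq_zero_of_cf (F : MvPolynomial (Fin 2) R) (h : ∀ i j, cf F i j = 0) : F = 0 := by
  ext d
  rw [← cf_eq_coeff, h, MvPolynomial.coeff_zero]

theorem cf_eq_zero_of_totalDegree_lt (F : MvPolynomial (Fin 2) R) {i j : ℕ}
    (h : F.totalDegree < i + j) : cf F i j = 0 := by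
  classical
  have e := cf_eq_coeff F (Finsupp.single 0 i + Finsupp.single 1 j)
  simp only [Finsupp.coe_add, Pi.add_apply, Finsupp.single_eq_same, Finsupp.single_apply] at e
  simp at e
  rw [e]
  refine MvPolynomial.coeff_eq_zero_of_totalDegree_lt (lt_of_lt_of_le h (le_of_eq ?_))
  rw [Finset.sum_subset (Finset.subset_univ _) fun x _ hx => Finsupp.notMem_support_iff.1 hx]
  simp [Fin.sum_univ_two]

theorem cf_mem (I : Ideal R) (F : MvPolynomial (Fin 2) R) (h : ∀ d, F.coeff d ∈ I) (i j : ℕ) :
    cf F i j ∈ I := by
  classical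
  rw [F.as_sum, cf_sum]
  refine I.sum_mem fun d _ => ?_
  rw [cf_monomial]
  split_ifs
  exacts [h d, I.zero_mem]

theorem cf_aeval_add (G : R[X]) (i j : ℕ) :
    cf (Polynomial.aeval (MvPolynomial.X 0 + MvPolynomial.X 1 : MvPolynomial (Fin 2) R) G) i j =
      ((i + j).choose i : R) * G.coeff (i + j) := by
  rw [cf, ← Polynomial.aeval_algHom_apply]
  simp only [map_add, MvPolynomial.aeval_X, Matrix.cons_val_zero, Matrix.cons_val_one]
  induction G using Polynomial.induction_on' with
  | add P Q hP hQ => simp only [map_add, coeff_add, hP, hQ, mul_add]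
  | monomial n r =>
    rw [Polynomial.aeval_monomial, IsScalarTower.algebraMap_apply R R[X] R[X][X],
      Polynomial.algebraMap_eq, Polynomial.algebraMap_eq, coeff_C_mul, coeff_C_mul, add_comm (C X) X,
      coeff_X_add_C_pow, coeff_monomial, coeff_mul_natCast, coeff_X_pow]
    by_cases hj : j ≤ n
    · by_cases hij : n = i + j
      · subst hij
        rw [if_pos (by omega), if_pos rfl, one_mul,
          show (i + j).choose j = (i + j).choose i from (Nat.choose_symm_add (a := i) (b := j)).symm]
        ring
      · rw [if_neg (by omega), if_neg hij]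
        ring
    · rw [Nat.choose_eq_zero_of_lt (by omega), if_neg (show ¬ n = i + j by omega)]
      simp

theorem cf_aeval_zero (G : R[X]) (i j : ℕ) :
    cf (Polynomial.aeval (MvPolynomial.X 0 : MvPolynomial (Fin 2) R) G) i j =
      if j = 0 then G.coeff i else 0 := by
  rw [cf, ← Polynomial.aeval_algHom_apply]
  simp only [MvPolynomial.aeval_X, Matrix.cons_val_zero]
  induction G using Polynomial.induction_on' with
  | add P Q hP hQ => simp only [map_add, coeff_add, hP, hQ]; split_ifs <;> simp
  | monomial n r =>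
    rw [Polynomial.aeval_monomial, IsScalarTower.algebraMap_apply R R[X] R[X][X],
      Polynomial.algebraMap_eq, Polynomial.algebraMap_eq, ← C_pow, ← C_mul, coeff_C]
    split_ifs
    · rw [coeff_C_mul_X_pow, coeff_monomial]
      simp [eq_comm]
    · rfl

theorem cf_aeval_one (G : R[X]) (i j : ℕ) :
    cf (Polynomial.aeval (MvPolynomial.X 1 : MvPolynomial (Fin 2) R) G) i j =
      if i = 0 then G.coeff j else 0 := by
  rw [cf, ← Polynomial.aeval_algHom_apply]
  simp only [MvPolynomial.aeval_X, Matrix.cons_val_one, Matrix.cons_val_zero]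
  induction G using Polynomial.induction_on' with
  | add P Q hP hQ => simp only [map_add, coeff_add, hP, hQ]; split_ifs <;> simp
  | monomial n r =>
    rw [Polynomial.aeval_monomial, IsScalarTower.algebraMap_apply R R[X] R[X][X],
      Polynomial.algebraMap_eq, Polynomial.algebraMap_eq, coeff_C_mul_X_pow, coeff_monomial]
    by_cases h : n = j
    · subst h; simp [coeff_C]
    · rw [if_neg (fun h' => h h'.symm), coeff_zero, if_neg h, ite_self]

theorem cf_aeval_mul (G H : R[X]) (i j : ℕ) :
    cf (Polynomial.aeval (MvPolynomial.X 0 : MvPolynomial (Fin 2) R) G *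
      Polynomial.aeval (MvPolynomial.X 1 : MvPolynomial (Fin 2) R) H) i j =
      G.coeff i * H.coeff j := by
  rw [cf, map_mul, ← Polynomial.aeval_algHom_apply, ← Polynomial.aeval_algHom_apply]
  simp only [MvPolynomial.aeval_X, Matrix.cons_val_zero, Matrix.cons_val_one]
  induction G using Polynomial.induction_on' with
  | add P Q hP hQ => simp only [map_add, add_mul, coeff_add, hP, hQ]
  | monomial n r =>
    induction H using Polynomial.induction_on' with
    | add P Q hP hQ => simp only [map_add, mul_add, coeff_add, hP, hQ]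
    | monomial m s =>
      simp only [Polynomial.aeval_monomial, IsScalarTower.algebraMap_apply R R[X] R[X][X],
        Polynomial.algebraMap_eq]
      rw [show C (C r) * C X ^ n * (C (C s) * (X : R[X][X]) ^ m) = C (C (r * s) * X ^ n) * X ^ m by
        simp only [C_mul, C_pow]; ring]
      rw [coeff_C_mul_X_pow, coeff_monomial, coeff_monomial]
      rw [show C (r * s) * X ^ n = monomial n (r * s) from C_mul_X_pow_eq_monomial]
      by_cases hm : j = m <;> by_cases hn : i = n <;>
        simp [coeff_monomial, hm, hn, Ne.symm]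

/-- `F(X₁, X₀)`. -/
theorem cf_swap (F : MvPolynomial (Fin 2) R) (i j : ℕ) :
    cf (MvPolynomial.aeval ![MvPolynomial.X 1, MvPolynomial.X 0] F) i j = cf F j i := by
  classical
  induction F using MvPolynomial.induction_on' with
  | add P Q hP hQ => rw [map_add, cf_add, hP, hQ, cf_add]
  | monomial d r =>
    rw [MvPolynomial.aeval_monomial, Finsupp.prod_fintype _ _ (fun _ => pow_zero _), Fin.prod_univ_two,
      MvPolynomial.algebraMap_eq]
    simp only [Matrix.cons_val_zero, Matrix.cons_val_one]
    rw [MvPolynomial.X_pow_eq_monomial, MvPolynomial.X_pow_eq_monomial, MvPolynomial.monomial_mul,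
      MvPolynomial.C_mul_monomial, cf_monomial, cf_monomial]
    simp [and_comm]

end GrothLib.GaDual
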