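import Groth.Agent.Lib.GaDual.Lazard
import Mathlib.RingTheory.Nilpotent.Exp
import Mathlib.NumberTheory.Padics.PadicIntegers
import Mathlib.NumberTheory.Padics.RingHoms
import Mathlib.NumberTheory.Wilson
import Mathlib.RingTheory.Polynomial.Basic

/-!
# The Artin–Hasse exponential modulo degree `2p`

`GrothLib.GaDual.exists_truncated_artinHasse`: over `ZMod p` there is a polynomial `F` with constant
term `1` and `F(bs) F(bt) = F(b(s+t)) (1 - bᵖ C(s,t))` whenever `b^(2p) = 0`.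
-/

set_option autoImplicit false

universe u

open Polynomial Finset

namespace GrothLib.GaDual

variable (p : ℕ) [Fact p.Prime]

/-- Coefficient of the Artin–Hasse exponential in degree `< 2p`. -/
def ahCoeff (n : ℕ) : ℚ :=
  (n.factorial : ℚ)⁻¹ + if p ≤ n then ((p : ℚ) * (n - p).factorial)⁻¹ else 0

theorem ahCoeff_den {n : ℕ} (hn : n < p + p) : ¬ p ∣ (ahCoeff p n).den := by
  have hp : p.Prime := Fact.out
  suffices h : ∃ a u : ℕ, ¬ p ∣ u ∧ ahCoeff p n = (a : ℚ) / u by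
    obtain ⟨a, u, hu, he⟩ := h
    intro hd
    refine hu (hd.trans ?_)
    have := Rat.den_dvd (a : ℤ) (u : ℤ)
    rw [Rat.divInt_eq_div, Int.natCast_dvd_natCast] at this
    rw [he]
    simpa using this
  rcases lt_or_ge n p with h | h
  · exact ⟨1, n.factorial, fun hd => absurd ((hp.dvd_factorial).1 hd) (by omega), by
      simp [ahCoeff, show ¬ p ≤ n by omega]⟩
  obtain ⟨m, rfl⟩ := Nat.exists_eq_add_of_le h
  have hm : m < p := by omega
  set v := (p + m).choose m * (p - 1).factorial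
  have hv1 : (v : ZMod p) = -1 := by
    have hc : ((p + m).choose m : ZMod p) = 1 := by
      rw [← Nat.cast_one, ZMod.natCast_eq_natCast_iff]
      refine (Choose.choose_modEq_choose_mod_mul_choose_div_nat (p := p)).trans ?_
      rw [Nat.add_mod_left, Nat.mod_eq_of_lt hm, Nat.choose_self, Nat.add_div_left _ hp.pos,
        Nat.div_eq_of_lt hm]
      rfl
    simp only [v, Nat.cast_mul, hc, ZMod.wilsons_lemma, one_mul]
  have hdvd : p ∣ 1 + v := (ZMod.natCast_eq_zero_iff _ _).1 (by push_cast; rw [hv1]; ring)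
  have hv : ¬ p ∣ v := fun h => by
    have := (ZMod.natCast_eq_zero_iff v p).2 h
    rw [hv1] at this
    exact neg_ne_zero.2 one_ne_zero this
  refine ⟨(1 + v) / p, v * m.factorial, fun h => (hp.dvd_mul.1 h).elim hv
    fun h => absurd (hp.dvd_factorial.1 h) (by omega), ?_⟩
  have hfac : ((p + m).factorial : ℚ) = v * m.factorial * p := by
    have h1 := Nat.choose_mul_factorial_mul_factorial (Nat.le_add_left m p)
    rw [Nat.add_sub_cancel, ← Nat.mul_factorial_pred hp.ne_zero] at h1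
    rw [← h1]
    simp only [v]
    push_cast
    ring
  have hp0 : (p : ℚ) ≠ 0 := Nat.cast_ne_zero.2 hp.ne_zero
  have hm0 : (m.factorial : ℚ) ≠ 0 := Nat.cast_ne_zero.2 m.factorial_ne_zero
  have hv0 : (v : ℚ) ≠ 0 := Nat.cast_ne_zero.2 fun h => hv (h ▸ dvd_zero p)
  rw [ahCoeff, if_pos h, Nat.add_sub_cancel_left, hfac, Nat.cast_div hdvd hp0]
  push_cast
  field_simp

omit [Fact p.Prime] in
theorem sum_ahCoeff_eq_exp_mul {V : Type*} [CommRing V] [Algebra ℚ V] (z : V)
    (hz : z ^ (p + p) = 0) :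
    ∑ n ∈ range (p + p), ahCoeff p n • z ^ n =
      IsNilpotent.exp z * (1 + algebraMap ℚ V (p : ℚ)⁻¹ * z ^ p) := by
  rw [IsNilpotent.exp_eq_sum (A := V) hz]
  simp only [ahCoeff, add_smul, sum_add_distrib, mul_add, mul_one]
  congr 1
  rw [sum_range_add, sum_range_add, add_mul, sum_mul, sum_mul]
  have h0 : ∀ m ∈ range p, (if p ≤ m then ((p : ℚ) * (m - p).factorial)⁻¹ else 0) • z ^ m = 0 :=
    fun m hm => by rw [if_neg (by simpa using hm), zero_smul]
  have h1 : ∀ m ∈ range p,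
      ((p + m).factorial : ℚ)⁻¹ • z ^ (p + m) * (algebraMap ℚ V (p : ℚ)⁻¹ * z ^ p) = 0 :=
    fun m _ => by
      rw [smul_mul_assoc, show z ^ (p + m) * (algebraMap ℚ V (p : ℚ)⁻¹ * z ^ p) =
        algebraMap ℚ V (p : ℚ)⁻¹ * z ^ (p + p) * z ^ m by ring, hz, mul_zero, zero_mul, smul_zero]
  rw [sum_eq_zero h0, sum_eq_zero h1, zero_add, add_zero]
  refine sum_congr rfl fun m _ => ?_
  rw [if_pos (Nat.le_add_right p m), Nat.add_sub_cancel_left, Algebra.smul_def, Algebra.smul_def,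
    mul_inv, map_mul, pow_add]
  ring

theorem exists_truncated_artinHasse :
    ∃ F : (ZMod p)[X], F.coeff 0 = 1 ∧ ∀ (A : Type u) [CommRing A] (φ : ZMod p →+* A) (s t b : A),
      b ^ (p + p) = 0 →
        F.eval₂ φ (b * s) * F.eval₂ φ (b * t) =
          F.eval₂ φ (b * (s + t)) * (1 - b ^ p * witt p s t) := by
  classical
  have hp : p.Prime := Fact.out
  let c : ℕ → ℤ_[p] := fun n =>
    if h : n < p + p then ⟨(ahCoeff p n : ℚ_[p]), Padic.norm_rat_le_one (ahCoeff_den p h)⟩ else 0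
  let F₀ : ℤ_[p][X] := ∑ n ∈ range (p + p), monomial n (c n)
  refine ⟨F₀.map PadicInt.toZMod, ?_, fun A _ φ s t b hb => ?_⟩
  · have h0 : c 0 = 1 := Subtype.ext <| by
      simp [c, hp.pos, ahCoeff, hp.ne_zero]
    rw [coeff_map, show F₀.coeff 0 = c 0 by simp [F₀, finsetSum_coeff, coeff_monomial, hp.pos.ne'],
      h0, map_one]
  have key : ∀ (V : Type) [CommRing V] [Algebra ℚ V] (χ : ℤ_[p] →+* V),
      (∀ n, n < p + p → χ (c n) = algebraMap ℚ V (ahCoeff p n)) → ∀ b x y : V, b ^ (p + p) = 0 →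
      F₀.eval₂ χ (b * x) * F₀.eval₂ χ (b * y) =
        F₀.eval₂ χ (b * (x + y)) * (1 - b ^ p * witt p x y) := by
    intro V _ _ χ hχ b x y hb
    have hnil : ∀ z, (b * z) ^ (p + p) = 0 := fun z => by rw [mul_pow, hb, zero_mul]
    have hF : ∀ z, F₀.eval₂ χ (b * z) =
        IsNilpotent.exp (b * z) * (1 + algebraMap ℚ V (p : ℚ)⁻¹ * (b * z) ^ p) := fun z => by
      rw [← sum_ahCoeff_eq_exp_mul p (b * z) (hnil z), eval₂_finsetSum]
      refine sum_congr rfl fun n hn => ?_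
      rw [eval₂_monomial, hχ n (Finset.mem_range.1 hn), Algebra.smul_def]
    have hL : algebraMap ℚ V (p : ℚ)⁻¹ * ((p : ℕ) : V) = 1 := by
      rw [← map_natCast (algebraMap ℚ V), ← map_mul, inv_mul_cancel₀ (Nat.cast_ne_zero.2 hp.ne_zero),
        map_one]
    have hw := prime_mul_witt hp x y
    rw [hF, hF, hF, mul_add b x y,
      IsNilpotent.exp_add_of_commute (Commute.all _ _) ⟨_, hnil x⟩ ⟨_, hnil y⟩, ← mul_add b x y,
      mul_pow, mul_pow, mul_pow]
    have hb2 : b ^ p * b ^ p = 0 := by rw [← pow_add, hb]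
    set E := IsNilpotent.exp (b * x)
    set E' := IsNilpotent.exp (b * y)
    set L := algebraMap ℚ V (p : ℚ)⁻¹
    linear_combination (E * E' * L ^ 2 * x ^ p * y ^ p + E * E' * L * (x + y) ^ p * witt p x y) * hb2
      + E * E' * L * b ^ p * hw - E * E' * b ^ p * witt p x y * hL
  let ι : ℤ_[p] →+* (MvPolynomial (Fin 2) ℤ_[p])[X] := (Polynomial.C : MvPolynomial (Fin 2) ℤ_[p] →+* (MvPolynomial (Fin 2) ℤ_[p])[X]).comp MvPolynomial.C
  let xs : (MvPolynomial (Fin 2) ℤ_[p])[X] := Polynomial.C (MvPolynomial.X 0)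
  let xt : (MvPolynomial (Fin 2) ℤ_[p])[X] := Polynomial.C (MvPolynomial.X 1)
  let P : (MvPolynomial (Fin 2) ℤ_[p])[X] := F₀.eval₂ ι (Polynomial.X * xs) * F₀.eval₂ ι (Polynomial.X * xt) -
    F₀.eval₂ ι (Polynomial.X * (xs + xt)) * (1 - Polynomial.X ^ p * witt p xs xt)
  have hdvd : (Polynomial.X : (MvPolynomial (Fin 2) ℤ_[p])[X]) ^ (p + p) ∣ P := by
    let J : Ideal (MvPolynomial (Fin 2) ℚ_[p])[X] := Ideal.span {Polynomial.X ^ (p + p)}
    let π : (MvPolynomial (Fin 2) ℤ_[p])[X] →+* (MvPolynomial (Fin 2) ℚ_[p])[X] ⧸ J :=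
      (Ideal.Quotient.mk J).comp (mapRingHom (MvPolynomial.map PadicInt.Coe.ringHom))
    let bb := π Polynomial.X
    have hb' : bb ^ (p + p) = 0 := by
      simp only [bb, π, RingHom.comp_apply, coe_mapRingHom, Polynomial.map_X, ← map_pow]
      exact Ideal.Quotient.eq_zero_iff_mem.2 (Ideal.mem_span_singleton_self _)
    have hι : ∀ n, n < p + p → π (ι (c n)) = algebraMap ℚ _ (ahCoeff p n) := fun n hn => by
      refine Eq.trans ?_ (RingHom.congr_fun (RingHom.ext_rat
        (((Ideal.Quotient.mk J).comp (Polynomial.C.comp MvPolynomial.C)).comp (Rat.castHom ℚ_[p]))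
        (algebraMap ℚ _)) (ahCoeff p n))
      simp [π, ι, c, hn]
    have hP : π P = 0 := by
      simp only [P, map_sub, map_mul, hom_eval₂, map_add, map_one, map_pow, map_witt]
      exact sub_eq_zero.2 (key _ (π.comp ι) hι bb (π xs) (π xt) hb')
    rw [X_pow_dvd_iff]
    intro d hd
    simp only [π, RingHom.comp_apply, Ideal.Quotient.eq_zero_iff_mem, J, Ideal.mem_span_singleton,
      coe_mapRingHom] at hP
    rw [X_pow_dvd_iff] at hP
    have := hP d hd
    rw [coeff_map] at this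
    exact (map_eq_zero_iff _ (MvPolynomial.map_injective _ Subtype.coe_injective)).1 this
  let Θ : (MvPolynomial (Fin 2) ℤ_[p])[X] →+* A := eval₂RingHom (MvPolynomial.eval₂Hom (φ.comp PadicInt.toZMod) ![s, t]) b
  have hΘF : ∀ y : (MvPolynomial (Fin 2) ℤ_[p])[X], Θ (F₀.eval₂ ι (Polynomial.X * y)) =
      (F₀.map PadicInt.toZMod).eval₂ φ (b * Θ y) := fun y => by
    rw [hom_eval₂, eval₂_map, map_mul]
    congr 1
    · ext r; simp [Θ, ι]
    · simp [Θ]
  have hs : Θ xs = s := by simp [Θ, xs]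
  have ht : Θ xt = t := by simp [Θ, xt]
  obtain ⟨Q, hQ⟩ := hdvd
  have h := congrArg Θ hQ
  rw [map_mul, map_pow, show Θ Polynomial.X = b by simp [Θ], hb, zero_mul] at h
  simp only [P, map_sub, map_mul, hΘF, map_add, map_one, map_pow, map_witt, hs, ht,
    show Θ Polynomial.X = b by simp [Θ]] at h
  exact sub_eq_zero.1 h

end GrothLib.GaDual
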