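import Groth.Agent.Lib.GaDual.Coeff
import Mathlib.Data.Nat.Choose.Lucas
import Mathlib.Data.Nat.Choose.Dvd
import Mathlib.NumberTheory.Padics.PadicVal.Basic
import Mathlib.Tactic.LinearCombination
import Mathlib.Algebra.CharP.Lemmas
import Mathlib.Algebra.CharP.Algebra
import Mathlib.Algebra.Algebra.ZMod
import Mathlib.Algebra.Field.ZMod
import Mathlib.RingTheory.Ideal.Quotient.Operations

/-!
# Lazard's lemma on symmetric additive two-cocycles in characteristic `p`

`GrothLib.GaDual.IsSymCocycle.exists_decomposition`: a symmetric two-cocycle with coefficients in an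
ideal `I` is a coboundary plus a combination of the `C(Xᵠ, Yᵠ)`, `q = pⁱ`, all with coefficients in `I`.
-/

set_option autoImplicit false

universe u

open MvPolynomial

namespace GrothLib.GaDual

variable {R : Type u} [CommRing R]

/-- `((X+Y)^p - X^p - Y^p)/p` evaluated at `a`, `b`. -/
def witt {A : Type*} [CommRing A] (p : ℕ) (a b : A) : A :=
  ∑ j ∈ Finset.Ioo 0 p, ((p.choose j / p : ℕ) : A) * a ^ j * b ^ (p - j)

theorem map_witt {A B : Type*} [CommRing A] [CommRing B] {F : Type*} [FunLike F A B]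
    [RingHomClass F A B] (φ : F) (p : ℕ) (a b : A) : φ (witt p a b) = witt p (φ a) (φ b) := by
  simp [witt, map_sum]

theorem prime_mul_witt {A : Type*} [CommRing A] {p : ℕ} (hp : p.Prime) (a b : A) :
    (p : A) * witt p a b = (a + b) ^ p - a ^ p - b ^ p := by
  have hs : Finset.range (p + 1) = insert p (insert 0 (Finset.Ioo 0 p)) := by
    ext x
    simp
    omega
  have e : (p : A) * witt p a b = ∑ j ∈ Finset.Ioo 0 p, a ^ j * b ^ (p - j) * p.choose j := by
    rw [witt, Finset.mul_sum]
    refine Finset.sum_congr rfl fun j hj => ?_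
    obtain ⟨c, hc⟩ := hp.dvd_choose_self (Finset.mem_Ioo.1 hj).1.ne' (Finset.mem_Ioo.1 hj).2
    rw [hc, Nat.mul_div_cancel_left _ hp.pos]
    push_cast
    ring
  have hp0 := hp.pos
  rw [e, add_pow, hs, Finset.sum_insert (by simp; omega), Finset.sum_insert (by simp)]
  simp

/-- The additive symmetric two-cocycle condition. -/
def IsSymCocycle (F : MvPolynomial (Fin 2) R) : Prop :=
  ∀ (A : Type u) [CommRing A] [Algebra R A] (a b c : A), aeval ![b, a] F = aeval ![a, b] F ∧
    aeval ![a, b + c] F + aeval ![b, c] F = aeval ![a + b, c] F + aeval ![a, b] F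

theorem aeval_aeval_two {σ : Type*} {A : Type u} [CommRing A] [Algebra R A] (g : σ → A)
    (w : Fin 2 → MvPolynomial σ R) (F : MvPolynomial (Fin 2) R) :
    aeval g (aeval w F) = aeval ![aeval g (w 0), aeval g (w 1)] F := by
  rw [← AlgHom.comp_apply, comp_aeval]
  congr 2
  funext i
  fin_cases i <;> rfl

theorem IsSymCocycle.of_eq (F : MvPolynomial (Fin 2) R)
    (h1 : aeval ![X 1, X 0] F = F)
    (h2 : aeval ![X 0, X 1 + X 2] F + aeval ![X 1, X 2] F
      - aeval ![X 0 + X 1, X 2] F - aeval ![X 0, X 1] F = (0 : MvPolynomial (Fin 3) R)) :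
    IsSymCocycle F := fun A _ _ a b c => by
  constructor
  · have e := congrArg (aeval ![a, b]) h1
    rw [aeval_aeval_two] at e
    simpa using e
  · have e := congrArg (aeval ![a, b, c]) h2
    simp only [map_add, map_sub, aeval_aeval_two, map_zero] at e
    simp at e
    linear_combination e

theorem IsSymCocycle.eqs {F : MvPolynomial (Fin 2) R} (h : IsSymCocycle F) :
    aeval ![X 1, X 0] F = F ∧ aeval ![X 0, X 1 + X 2] F + aeval ![X 1, X 2] F
      - aeval ![X 0 + X 1, X 2] F - aeval ![X 0, X 1] F = (0 : MvPolynomial (Fin 3) R) := by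
  constructor
  · rw [(h _ (X 0) (X 1) (0 : MvPolynomial (Fin 2) R)).1]
    rw [show ![(X 0 : MvPolynomial (Fin 2) R), X 1] = X by funext i; fin_cases i <;> rfl,
      aeval_X_left_apply]
  · rw [(h _ (X 0) (X 1) (X 2)).2]
    ring

theorem IsSymCocycle.add {F G : MvPolynomial (Fin 2) R} (hF : IsSymCocycle F) (hG : IsSymCocycle G) :
    IsSymCocycle (F + G) := fun A _ _ a b c => by
  obtain ⟨h1, h2⟩ := hF A a b c
  obtain ⟨h3, h4⟩ := hG A a b c
  simp only [map_add]
  exact ⟨by rw [h1, h3], by linear_combination h2 + h4⟩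

theorem IsSymCocycle.neg {F : MvPolynomial (Fin 2) R} (hF : IsSymCocycle F) :
    IsSymCocycle (-F) := fun A _ _ a b c => by
  obtain ⟨h1, h2⟩ := hF A a b c
  simp only [map_neg]
  exact ⟨by rw [h1], by linear_combination -h2⟩

theorem IsSymCocycle.C_mul {F : MvPolynomial (Fin 2) R} (hF : IsSymCocycle F) (r : R) :
    IsSymCocycle (C r * F) := fun A _ _ a b c => by
  obtain ⟨h1, h2⟩ := hF A a b c
  simp only [map_mul]
  exact ⟨by rw [h1]; simp, by
    simp only [aeval_C]; linear_combination algebraMap R A r * h2⟩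

theorem isSymCocycle_zero : IsSymCocycle (0 : MvPolynomial (Fin 2) R) := fun A _ _ a b c => by simp

theorem IsSymCocycle.sum {ι : Type*} (s : Finset ι) (F : ι → MvPolynomial (Fin 2) R)
    (hF : ∀ i ∈ s, IsSymCocycle (F i)) : IsSymCocycle (∑ i ∈ s, F i) :=
  Finset.sum_induction _ _ (fun _ _ h h' => h.add h') isSymCocycle_zero hF

/-- `G(X+Y) - G(X) - G(Y)`. -/
noncomputable def cobdry (G : Polynomial R) : MvPolynomial (Fin 2) R :=
  Polynomial.aeval (X 0 + X 1 : MvPolynomial (Fin 2) R) G
    - Polynomial.aeval (X 0 : MvPolynomial (Fin 2) R) G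
    - Polynomial.aeval (X 1 : MvPolynomial (Fin 2) R) G

theorem aeval_cobdry (G : Polynomial R) {A : Type u} [CommRing A] [Algebra R A] (a b : A) :
    aeval ![a, b] (cobdry G) =
      Polynomial.aeval (a + b) G - Polynomial.aeval a G - Polynomial.aeval b G := by
  simp [cobdry, ← Polynomial.aeval_algHom_apply]

theorem isSymCocycle_cobdry (G : Polynomial R) : IsSymCocycle (cobdry G) := fun A _ _ a b c => by
  simp only [aeval_cobdry]
  exact ⟨by rw [add_comm b a]; ring, by rw [add_assoc]; ring⟩

/-- `C(X^q, Y^q)` for `q = p^i`. -/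
noncomputable def wittPow (p i : ℕ) : MvPolynomial (Fin 2) R := witt p (X 0 ^ p ^ i) (X 1 ^ p ^ i)

theorem wittPow_eq_aeval (p i : ℕ) : (wittPow p i : MvPolynomial (Fin 2) R) =
    aeval ![X 0 ^ p ^ i, X 1 ^ p ^ i] (∑ j ∈ Finset.Ioo 0 p, C ((p.choose j / p : ℕ) : R) *
      X 0 ^ j * X 1 ^ (p - j) : MvPolynomial (Fin 2) R) := by
  simp [wittPow, witt, map_sum]

variable (p : ℕ) [Fact p.Prime] [CharP R p]

theorem witt_cocycle {A : Type u} [CommRing A] (a b c : A) :
    witt p a (b + c) + witt p b c = witt p (a + b) c + witt p a b := by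
  have hp : p.Prime := Fact.out
  let x : MvPolynomial (Fin 3) ℤ := X 0
  let y : MvPolynomial (Fin 3) ℤ := X 1
  let z : MvPolynomial (Fin 3) ℤ := X 2
  let x' : MvPolynomial (ULift.{u} (Fin 3)) ℤ := X ⟨0⟩
  let y' : MvPolynomial (ULift.{u} (Fin 3)) ℤ := X ⟨1⟩
  let z' : MvPolynomial (ULift.{u} (Fin 3)) ℤ := X ⟨2⟩
  have h : witt p x' (y' + z') + witt p y' z' = witt p (x' + y') z' + witt p x' y' := by
    have hp0 : (p : MvPolynomial (ULift.{u} (Fin 3)) ℤ) ≠ 0 := by
      rw [← map_natCast (MvPolynomial.C (σ := ULift.{u} (Fin 3)) (R := ℤ)), ne_eq, C_eq_zero]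
      exact_mod_cast hp.ne_zero
    refine mul_left_cancel₀ hp0 ?_
    rw [mul_add, mul_add, prime_mul_witt hp, prime_mul_witt hp, prime_mul_witt hp, prime_mul_witt hp]
    ring
  have e := congrArg (aeval (fun i : ULift.{u} (Fin 3) => ![a, b, c] i.down)) h
  simp only [map_add, map_witt, x', y', z', aeval_X] at e
  simpa using e

omit [Fact p.Prime] in
theorem witt_comm {A : Type u} [CommRing A] (a b : A) : witt p a b = witt p b a := by
  refine Finset.sum_nbij' (fun j => p - j) (fun j => p - j) ?_ ?_ ?_ ?_ ?_ <;>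
    simp only [Finset.mem_Ioo]
  · intro j hj; omega
  · intro j hj; omega
  · intro j hj; omega
  · intro j hj; omega
  · intro j hj
    rw [Nat.choose_symm (by omega), show p - (p - j) = j by omega]
    ring

theorem isSymCocycle_wittPow (i : ℕ) : IsSymCocycle (wittPow p i : MvPolynomial (Fin 2) R) := by
  intro A _ _ a b c
  have hp : p.Prime := Fact.out
  simp only [wittPow, map_witt, map_pow, aeval_X, Matrix.cons_val_zero, Matrix.cons_val_one]
  refine ⟨witt_comm p _ _, ?_⟩
  have hadd : ∀ x y : A, (x + y) ^ p ^ i = x ^ p ^ i + y ^ p ^ i := fun x y => by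
    by_cases hA : Nontrivial A
    · have : CharP A p := (CharP.charP_iff_prime_eq_zero hp).2
        (by rw [← map_natCast (algebraMap R A), CharP.cast_eq_zero, map_zero])
      exact add_pow_char_pow x y p i
    · have := not_nontrivial_iff_subsingleton.1 hA
      exact Subsingleton.elim _ _
  rw [hadd, hadd]
  exact witt_cocycle p _ _ _

theorem choose_pow_cast (n r : ℕ) : ((n.choose (p ^ r) : ℕ) : R) = ((n / p ^ r % p : ℕ) : R) := by
  rw [CharP.natCast_eq_natCast R p]
  induction r generalizing n with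
  | zero => simpa using (Nat.mod_modEq n p).symm
  | succ r ih =>
    refine (Choose.choose_modEq_choose_mod_mul_choose_div_nat (p := p)).trans ?_
    rw [pow_succ, Nat.mul_mod_left, Nat.choose_zero_right, one_mul,
      Nat.mul_div_cancel _ (Fact.out : p.Prime).pos]
    exact (ih (n / p)).trans (by rw [Nat.div_div_eq_div_mul, mul_comm p])

theorem isUnit_digit (c : ℕ) (h : c % p ≠ 0) : IsUnit ((c % p : ℕ) : R) := by
  rw [← map_natCast (ZMod.castHom (dvd_refl p) R)]
  refine IsUnit.map _ (IsUnit.mk0 _ fun h0 => ?_)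
  rw [ZMod.natCast_eq_zero_iff] at h0
  exact h (Nat.eq_zero_of_dvd_of_lt h0 (Nat.mod_lt _ (Fact.out : p.Prime).pos))

theorem choose_pow_eq_one (r : ℕ) {i : ℕ} (h : i / p ^ r % p = 1) :
    ((i.choose (p ^ r) : ℕ) : R) = 1 := by
  rw [choose_pow_cast p, h, Nat.cast_one]

theorem eq_zero_of_relations {n v : ℕ} (a : ℕ → R) (hqn : p ^ v < n) (hdvd : p ^ v ∣ n)
    (hcase : n / p ^ v % p ≠ 0 ∨ n = p ^ (v + 1)) (haq : a (p ^ v) = 0)
    (hsym : ∀ i j, 0 < i → 0 < j → i + j = n → a i = a j)
    (hcoc : ∀ i j k, 0 < i → 0 < j → 0 < k → i + j + k = n →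
      ((j + k).choose k : R) * a i = ((i + j).choose j : R) * a (i + j))
    (i : ℕ) (hi : 0 < i) (hin : i < n) : a i = 0 := by
  have hp : p.Prime := Fact.out
  have step : ∀ r i, i / p ^ r % p ≠ 0 → p ^ r ≤ i → i < n → a (p ^ r) = 0 → a i = 0 := by
    intro r i hdig hri hin h0
    rcases eq_or_lt_of_le hri with he | hlt
    · exact he ▸ h0
    have h := hcoc (p ^ r) (i - p ^ r) (n - i) (pow_pos hp.pos r) (by omega) (by omega) (by omega)
    rw [h0, mul_zero, show p ^ r + (i - p ^ r) = i by omega, Nat.choose_symm hri, choose_pow_cast p] at h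
    exact (isUnit_digit p _ hdig).mul_right_eq_zero.1 h.symm
  have high : ∀ r, v ≤ r → p ^ r < n → a (p ^ r) = 0 := by
    intro r hvr hrn
    rcases eq_or_lt_of_le hvr with he | hlt
    · exact he ▸ haq
    rcases hcase with hc | hc
    · obtain ⟨s, hs⟩ := Nat.exists_eq_add_of_lt hlt
      have hd : p ^ r = p ^ v * (p * p ^ s) := by rw [hs]; ring
      have hdiv : (n - p ^ r) / p ^ v = n / p ^ v - p * p ^ s := by
        obtain ⟨m, rfl⟩ := hdvd
        rw [hd, ← Nat.mul_sub, Nat.mul_div_cancel_left _ (pow_pos hp.pos v),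
          Nat.mul_div_cancel_left _ (pow_pos hp.pos v)]
      have hle : p * p ^ s ≤ n / p ^ v := by
        rw [Nat.le_div_iff_mul_le (pow_pos hp.pos v), mul_comm, ← hd]; exact hrn.le
      have hdig : (n - p ^ r) / p ^ v % p ≠ 0 := by
        rwa [hdiv, Nat.sub_mul_mod hle]
      have hge : p ^ v ≤ n - p ^ r := by
        by_contra hh
        exact hdig (by rw [Nat.div_eq_of_lt (by omega), Nat.zero_mod])
      have hlt' : n - p ^ r < n := Nat.sub_lt (by omega) (pow_pos hp.pos r)
      rw [hsym (p ^ r) (n - p ^ r) (pow_pos hp.pos r) (by omega) (by omega)]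
      exact step v _ hdig hge hlt' haq
    · rw [hc] at hrn
      have := (Nat.pow_lt_pow_iff_right hp.one_lt).1 hrn
      omega
  have low : ∀ r, p ^ r < n → a (p ^ r) = 0 := by
    intro r hrn
    by_cases hvr : v ≤ r
    · exact high r hvr hrn
    obtain ⟨m, rfl⟩ := hdvd
    have hP : p ^ r < p ^ v := (Nat.pow_lt_pow_iff_right hp.one_lt).2 (by omega)
    have hm : 2 ≤ m := by
      by_contra hh
      interval_cases m <;> omega
    have hdiv : (p ^ v * m - p ^ r) / p ^ v = m - 1 := by
      obtain ⟨l, rfl⟩ : ∃ l, m = l + 1 := ⟨m - 1, by omega⟩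
      rw [show p ^ v * (l + 1) - p ^ r = (p ^ v - p ^ r) + p ^ v * l by rw [Nat.mul_add_one]; omega,
        Nat.add_mul_div_left _ _ (pow_pos hp.pos v), Nat.div_eq_of_lt (by
          have := pow_pos hp.pos r; omega)]
      omega
    set t := Nat.log p (m - 1)
    have ht1 : p ^ t ≤ m - 1 := Nat.pow_log_le_self p (by omega)
    have ht2 : m - 1 < p ^ (t + 1) := Nat.lt_pow_succ_log_self hp.one_lt _
    have hdig : (p ^ v * m - p ^ r) / p ^ (v + t) % p ≠ 0 := by
      rw [pow_add, ← Nat.div_div_eq_div_mul, hdiv, Nat.mod_eq_of_lt]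
      · exact (Nat.div_pos ht1 (pow_pos hp.pos t)).ne'
      · rw [Nat.div_lt_iff_lt_mul (pow_pos hp.pos t), ← pow_succ']; exact ht2
    have hge : p ^ (v + t) ≤ p ^ v * m - p ^ r := by
      by_contra hh
      exact hdig (by rw [Nat.div_eq_of_lt (by omega), Nat.zero_mod])
    have hlt' : p ^ v * m - p ^ r < p ^ v * m := Nat.sub_lt (by omega) (pow_pos hp.pos r)
    rw [hsym (p ^ r) (p ^ v * m - p ^ r) (pow_pos hp.pos r) (by omega) (by omega)]
    exact step (v + t) _ hdig hge hlt' (high _ (Nat.le_add_right v t) (hge.trans_lt hlt'))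
  set t := Nat.log p i
  have ht1 : p ^ t ≤ i := Nat.pow_log_le_self p hi.ne'
  refine step t i ?_ ht1 hin (low t (ht1.trans_lt hin))
  rw [Nat.mod_eq_of_lt]
  · exact (Nat.div_pos ht1 (pow_pos hp.pos t)).ne'
  · rw [Nat.div_lt_iff_lt_mul (pow_pos hp.pos t), ← pow_succ']
    exact Nat.lt_pow_succ_log_self hp.one_lt _

omit [Fact p.Prime] [CharP R p] in
theorem cf_mon (r : R) (a b i j : ℕ) :
    cf (C r * X 0 ^ a * X 1 ^ b : MvPolynomial (Fin 2) R) i j = if a = i ∧ b = j then r else 0 := by
  rw [X_pow_eq_monomial, X_pow_eq_monomial, C_mul_monomial, monomial_mul, mul_one, mul_one, cf_monomial]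
  simp

omit [Fact p.Prime] [CharP R p] in
theorem cf_wittPow (w i j : ℕ) : cf (wittPow p w : MvPolynomial (Fin 2) R) i j =
    ∑ l ∈ Finset.Ioo 0 p,
      if p ^ w * l = i ∧ p ^ w * (p - l) = j then ((p.choose l / p : ℕ) : R) else 0 := by
  rw [wittPow, witt, cf_sum]
  refine Finset.sum_congr rfl fun l _ => ?_
  rw [← map_natCast (C (σ := Fin 2) (R := R)), ← pow_mul, ← pow_mul, cf_mon]

omit [Fact p.Prime] [CharP R p] in
theorem cf_wittPow_eq_zero {w i j : ℕ} (h : i + j ≠ p ^ (w + 1)) :
    cf (wittPow p w : MvPolynomial (Fin 2) R) i j = 0 := by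
  rw [cf_wittPow]
  refine Finset.sum_eq_zero fun l hl => if_neg fun hh => h ?_
  rw [← hh.1, ← hh.2, ← mul_add, Nat.add_sub_cancel' (Finset.mem_Ioo.1 hl).2.le, pow_succ]

omit [CharP R p] in
theorem cf_wittPow_self (w : ℕ) :
    cf (wittPow p w : MvPolynomial (Fin 2) R) (p ^ w) (p ^ w * (p - 1)) = 1 := by
  have hp : p.Prime := Fact.out
  rw [cf_wittPow, Finset.sum_eq_single 1]
  · rw [if_pos ⟨mul_one _, rfl⟩, Nat.choose_one_right, Nat.div_self hp.pos, Nat.cast_one]
  · intro l _ hl
    refine if_neg fun hh => hl ?_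
    exact Nat.eq_of_mul_eq_mul_left (pow_pos hp.pos w) (hh.1.trans (mul_one _).symm)
  · intro h
    exact absurd (Finset.mem_Ioo.2 ⟨one_pos, hp.one_lt⟩) h

omit [Fact p.Prime] [CharP R p] in
theorem cf_cobdry (G : Polynomial R) (i j : ℕ) : cf (cobdry G) i j =
    ((i + j).choose i : R) * G.coeff (i + j) - (if j = 0 then G.coeff i else 0)
      - (if i = 0 then G.coeff j else 0) := by
  rw [cobdry, cf_sub, cf_sub, cf_aeval_add, cf_aeval_zero, cf_aeval_one]

omit [Fact p.Prime] [CharP R p] in
theorem IsSymCocycle.cf_symm {F : MvPolynomial (Fin 2) R} (hF : IsSymCocycle F) (i j : ℕ) :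
    cf F i j = cf F j i := by
  conv_rhs => rw [← cf_swap, hF.eqs.1]

omit [Fact p.Prime] [CharP R p] in
/-- The coefficient form of the cocycle identity. -/
theorem IsSymCocycle.cf_coc {F : MvPolynomial (Fin 2) R} (hF : IsSymCocycle F) {i j k : ℕ}
    (hi : 0 < i) (hk : 0 < k) :
    ((j + k).choose k : R) * cf F i (j + k) = ((i + j).choose j : R) * cf F (i + j) k := by
  let x : Polynomial (Polynomial (Polynomial R)) := Polynomial.C (Polynomial.C Polynomial.X)
  let y : Polynomial (Polynomial (Polynomial R)) := Polynomial.C Polynomial.X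
  let z : Polynomial (Polynomial (Polynomial R)) := Polynomial.X
  let φ : Polynomial (Polynomial (Polynomial R)) → R := fun P => ((P.coeff k).coeff j).coeff i
  have hC : ∀ r : R, algebraMap R (Polynomial (Polynomial (Polynomial R))) r =
      Polynomial.C (Polynomial.C (Polynomial.C r)) := fun r => rfl
  have e1 : ∀ P : MvPolynomial (Fin 2) R,
      φ (aeval ![x, y + z] P) = ((j + k).choose k : R) * cf P i (j + k) ∧
      φ (aeval ![x + y, z] P) = ((i + j).choose j : R) * cf P (i + j) k ∧
      φ (aeval ![y, z] P) = 0 ∧ φ (aeval ![x, y] P) = 0 := by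
    intro P
    induction P using MvPolynomial.induction_on' with
    | add P Q hP hQ =>
      simp only [φ] at hP hQ ⊢
      simp only [map_add, Polynomial.coeff_add, hP.1, hQ.1, hP.2.1, hQ.2.1, hP.2.2.1, hQ.2.2.1,
        hP.2.2.2, hQ.2.2.2, cf_add, mul_add, add_zero, and_self]
    | monomial d r =>
      simp only [φ, aeval_monomial, Finsupp.prod_fintype _ _ (fun _ => pow_zero _), Fin.prod_univ_two,
        hC, Matrix.cons_val_zero, Matrix.cons_val_one, cf_monomial, x, y, z]
      refine ⟨?_, ?_, ?_, ?_⟩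
      · rw [← mul_assoc, ← Polynomial.C_pow, ← Polynomial.C_mul, Polynomial.coeff_C_mul,
          add_comm (Polynomial.C Polynomial.X) Polynomial.X, Polynomial.coeff_X_add_C_pow,
          ← Polynomial.C_pow, ← Polynomial.C_mul, ← mul_assoc, Polynomial.coeff_mul_natCast,
          Polynomial.coeff_C_mul_X_pow]
        by_cases h : d 0 = i ∧ d 1 = j + k
        · obtain ⟨h0, h1⟩ := h
          rw [if_pos (show j = d 1 - k by omega), if_pos (show d 0 = i ∧ d 1 = j + k from ⟨h0, h1⟩),
            Polynomial.coeff_mul_natCast, Polynomial.coeff_C_mul_X_pow, if_pos h0.symm, h1, mul_comm]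
        · rw [if_neg h, mul_zero]
          by_cases hk' : d 1 < k
          · rw [Nat.choose_eq_zero_of_lt hk']; simp
          split_ifs with hj
          · rw [Polynomial.coeff_mul_natCast, Polynomial.coeff_C_mul_X_pow,
              if_neg (fun h' => h ⟨h'.symm, by omega⟩)]
            simp
          · simp
      · rw [← mul_assoc, ← Polynomial.C_add, ← Polynomial.C_pow, ← Polynomial.C_mul,
          Polynomial.coeff_C_mul_X_pow]
        by_cases hk' : k = d 1
        · rw [if_pos hk', Polynomial.coeff_C_mul, add_comm (Polynomial.C Polynomial.X) Polynomial.X,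
            Polynomial.coeff_X_add_C_pow, ← mul_assoc, Polynomial.coeff_mul_natCast,
            Polynomial.coeff_C_mul_X_pow]
          by_cases hj : j ≤ d 0
          · by_cases hij : d 0 = i + j
            · rw [if_pos (show d 0 = i + j ∧ d 1 = k from ⟨hij, hk'.symm⟩),
                if_pos (show i = d 0 - j by omega), hij]
              simp [mul_comm]
            · rw [if_neg (show ¬(d 0 = i + j ∧ d 1 = k) from fun h' => hij h'.1),
                if_neg (show ¬ i = d 0 - j by omega)]
              simp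
          · rw [Nat.choose_eq_zero_of_lt (show d 0 < j by omega),
              if_neg (show ¬(d 0 = i + j ∧ d 1 = k) by omega)]
            simp
        · rw [if_neg hk', Polynomial.coeff_zero, Polynomial.coeff_zero,
            if_neg (fun h' => hk' h'.2.symm), mul_zero]
      · rw [← mul_assoc, ← Polynomial.C_pow, ← Polynomial.C_mul, Polynomial.coeff_C_mul_X_pow]
        split_ifs
        · rw [Polynomial.coeff_C_mul_X_pow]
          split_ifs
          · rw [Polynomial.coeff_C, if_neg hi.ne']
          · simp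
        · simp
      · simp only [← Polynomial.C_pow, ← Polynomial.C_mul, Polynomial.coeff_C, if_neg hk.ne',
          Polynomial.coeff_zero]
  have h := congrArg φ (hF _ x y z).2
  simp only [φ, Polynomial.coeff_add] at h
  obtain ⟨h1, h2, h3, h4⟩ := e1 F
  simp only [φ] at h1 h2 h3 h4
  rwa [h1, h2, h3, h4, add_zero, add_zero] at h

open scoped Classical in
/-- **Lazard's lemma**. -/
theorem IsSymCocycle.exists_decomposition {F : MvPolynomial (Fin 2) R} (hF : IsSymCocycle F)
    (I : Ideal R) (hI : ∀ d, F.coeff d ∈ I) :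
    ∃ (G : Polynomial R) (N : ℕ) (r : ℕ → R), (∀ n, G.coeff n ∈ I) ∧ (∀ w, r w ∈ I) ∧
      F = cobdry G + ∑ w ∈ Finset.range N, C (r w) * wittPow p w := by
  have hp : p.Prime := Fact.out
  set D := F.totalDegree + 1
  have hdeg : ∀ i j, D ≤ i + j → cf F i j = 0 := fun i j h => cf_eq_zero_of_totalDegree_lt F (by omega)
  let q : ℕ → ℕ := fun n => p ^ padicValNat p n
  let g : ℕ → R := fun n => if n = 0 then -cf F 0 0 else if ∃ w, n = p ^ w then 0
    else cf F (q n) (n - q n) * Ring.inverse (n.choose (q n) : R)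
  let G : Polynomial R := ∑ n ∈ Finset.range D, Polynomial.monomial n (g n)
  have hG : ∀ n, G.coeff n = if n < D then g n else 0 := fun n => by
    simp [G, Polynomial.finsetSum_coeff, Polynomial.coeff_monomial]
  let r : ℕ → R := fun w => cf F (p ^ w) (p ^ w * (p - 1))
  have hgI : ∀ n, g n ∈ I := fun n => by
    simp only [g]
    split_ifs
    exacts [I.neg_mem (cf_mem I F hI 0 0), I.zero_mem, I.mul_mem_right _ (cf_mem I F hI _ _)]
  refine ⟨G, D, r, fun n => ?_, fun w => cf_mem I F hI _ _, ?_⟩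
  · rw [hG]
    split_ifs
    exacts [hgI n, I.zero_mem]
  refine sub_eq_zero.1 (eq_zero_of_cf _ ?_)
  set F' := F - (cobdry G + ∑ w ∈ Finset.range D, C (r w) * wittPow p w)
  have hF' : IsSymCocycle F' := by
    rw [show F' = F + -(cobdry G + ∑ w ∈ Finset.range D, C (r w) * wittPow p w) from sub_eq_add_neg _ _]
    exact hF.add ((isSymCocycle_cobdry G).add (IsSymCocycle.sum _ _
      fun w _ => (isSymCocycle_wittPow p w).C_mul _)).neg
  have hval : ∀ i j, cf F' i j = cf F i j - (cf (cobdry G) i j +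
      ∑ w ∈ Finset.range D, r w * cf (wittPow p w : MvPolynomial (Fin 2) R) i j) := fun i j => by
    simp only [F', cf_sub, cf_add, cf_sum, cf_C_mul]
  have h00 : cf F' 0 0 = 0 := by
    rw [hval, Finset.sum_eq_zero fun w _ => by
      rw [cf_wittPow_eq_zero p (show 0 + 0 ≠ p ^ (w + 1) by
        have := pow_pos hp.pos (w + 1); omega), mul_zero], cf_cobdry, hG]
    simp [g, D]
  have haxis : ∀ i, cf F' i 0 = 0 := by
    intro i
    rcases Nat.eq_zero_or_pos i with rfl | hi
    · exact h00
    have e2 : ∀ (x : Polynomial R) (P : MvPolynomial (Fin 2) R),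
        (aeval ![x, (0 : Polynomial R)] P) = Polynomial.aeval x
          (aeval ![(Polynomial.X : Polynomial R), 0] P) := fun x P => by
      rw [← AlgHom.comp_apply, comp_aeval]
      congr 2
      funext i
      fin_cases i <;> simp
    have e3 : aeval ![(0 : Polynomial R), 0] F' = aeval ![(Polynomial.X : Polynomial R), 0] F' := by
      have e' := (hF' (Polynomial R) Polynomial.X 0 0).2
      simp only [add_zero] at e'
      exact add_left_cancel e'
    have e4 : ∀ (m : ℕ) (P : MvPolynomial (Fin 2) R),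
        (aeval ![(Polynomial.X : Polynomial R), 0] P).coeff m = cf P m 0 := fun m P => by
      induction P using MvPolynomial.induction_on' with
      | add P Q hP hQ => simp [map_add, hP, hQ, cf_add]
      | monomial d c =>
        rw [aeval_monomial, Finsupp.prod_fintype _ _ (fun _ => pow_zero _), Fin.prod_univ_two, cf_monomial,
          Polynomial.algebraMap_eq]
        simp only [Matrix.cons_val_zero, Matrix.cons_val_one]
        rcases Nat.eq_zero_or_pos (d 1) with h | h
        · rw [h, pow_zero, mul_one, Polynomial.coeff_C_mul_X_pow]; simp [eq_comm]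
        · rw [zero_pow h.ne', mul_zero, mul_zero, if_neg fun h' => h.ne' h'.2]; simp
    rw [← e4, ← e3, e2 0 F']
    simp [Polynomial.aeval_def, Polynomial.eval₂_at_zero, Polynomial.coeff_C, hi.ne']
  intro i j
  rcases Nat.eq_zero_or_pos j with rfl | hj
  · exact haxis i
  rcases Nat.eq_zero_or_pos i with rfl | hi
  · rw [hF'.cf_symm]; exact haxis j
  obtain ⟨n, hn⟩ : ∃ n, i + j = n := ⟨_, rfl⟩
  by_cases hD : D ≤ n
  · rw [hval, hdeg i j (by omega), cf_cobdry, hG, if_neg (by omega), if_neg hj.ne', if_neg hi.ne',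
      Finset.sum_eq_zero fun w _ => ?_]
    · simp
    · by_cases hw : i + j = p ^ (w + 1)
      · rw [show r w = 0 from hdeg _ _ (by
          have := Nat.le_mul_of_pos_right (p ^ w) hp.pos
          rw [pow_succ] at hw; rw [Nat.mul_sub_one]; omega), zero_mul]
      · rw [cf_wittPow_eq_zero p hw, mul_zero]
  obtain ⟨v, hqn, hdvd, hcase, haq⟩ : ∃ v, p ^ v < n ∧ p ^ v ∣ n ∧
      (n / p ^ v % p ≠ 0 ∨ n = p ^ (v + 1)) ∧ cf F' (p ^ v) (n - p ^ v) = 0 := by
    by_cases hpow : ∃ w, n = p ^ w
    · obtain ⟨w, hw⟩ := hpow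
      obtain ⟨v, rfl⟩ : ∃ v, w = v + 1 :=
        ⟨w - 1, (Nat.sub_add_cancel (Nat.one_le_iff_ne_zero.2 (by rintro rfl; rw [pow_zero] at hw; omega))).symm⟩
      have hnv : n - p ^ v = p ^ v * (p - 1) := by rw [hw, pow_succ, Nat.mul_sub_one]
      refine ⟨v, hw ▸ Nat.pow_lt_pow_right hp.one_lt (Nat.lt_succ_self v),
        hw ▸ pow_dvd_pow p (Nat.le_succ v), Or.inr hw, ?_⟩
      have hlt : p ^ v < n := hw ▸ Nat.pow_lt_pow_right hp.one_lt (Nat.lt_succ_self v)
      have hg : g n = 0 := by
        have h1 : n ≠ 0 := by omega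
        simp only [g, if_neg h1, if_pos (⟨v + 1, hw⟩ : ∃ w, n = p ^ w)]
      have hvD : v < D := by
        have : v < p ^ v := Nat.lt_pow_self hp.one_lt
        omega
      rw [hval, cf_cobdry, hG, Nat.add_sub_cancel' hlt.le, if_pos (by omega), hg, mul_zero,
        if_neg (by omega), if_neg (pow_ne_zero _ hp.ne_zero), Finset.sum_eq_single v]
      · rw [hnv, cf_wittPow_self p v]
        simp [r]
      · intro w' _ hw'
        rw [cf_wittPow_eq_zero p (fun h => hw' ?_), mul_zero]
        rw [Nat.add_sub_cancel' hlt.le, hw] at h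
        exact (Nat.succ_injective (Nat.pow_right_injective hp.two_le h)).symm
      · exact fun h => absurd (Finset.mem_range.2 hvD) h
    · have hn0 : n ≠ 0 := by omega
      have hlt : q n < n := lt_of_le_of_ne (Nat.le_of_dvd (by omega) pow_padicValNat_dvd)
        fun h => hpow ⟨_, h.symm⟩
      have hdig : n / q n % p ≠ 0 := fun h => by
        refine pow_succ_padicValNat_not_dvd (p := p) hn0 ?_
        rw [pow_succ]
        exact (Nat.dvd_div_iff_mul_dvd pow_padicValNat_dvd).1 (Nat.dvd_of_mod_eq_zero h)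
      have hunit : IsUnit ((n.choose (q n) : ℕ) : R) := by
        rw [choose_pow_cast p]
        exact isUnit_digit p _ hdig
      refine ⟨padicValNat p n, hlt, pow_padicValNat_dvd, Or.inl hdig, ?_⟩
      change cf F' (q n) (n - q n) = 0
      rw [hval, cf_cobdry, hG, Nat.add_sub_cancel' hlt.le, if_pos (by omega), if_neg (by omega),
        if_neg (show q n ≠ 0 from pow_ne_zero _ hp.ne_zero), Finset.sum_eq_zero fun w _ => by
          rw [cf_wittPow_eq_zero p (fun h => hpow ⟨w + 1, by rw [← h, Nat.add_sub_cancel' hlt.le]⟩),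
            mul_zero]]
      simp only [g, if_neg hn0, if_neg hpow]
      rw [mul_left_comm, Ring.mul_inverse_cancel _ hunit]
      ring
  have := eq_zero_of_relations p (fun i => cf F' i (n - i)) hqn hdvd hcase haq
    (fun a b _ _ hab => by
      change cf F' a (n - a) = cf F' b (n - b)
      rw [hF'.cf_symm, show n - a = b by omega, show n - b = a by omega])
    (fun a b c ha _ hc habc => by
      change _ * cf F' a (n - a) = _ * cf F' (a + b) (n - (a + b))
      rw [show n - a = b + c by omega, show n - (a + b) = c by omega]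
      exact hF'.cf_coc ha hc) i hi (by omega)
  rwa [show n - i = j by omega] at this

end GrothLib.GaDual
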